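import Cfsg.Agent.Lib.OddLocal.QuadPair
import Cfsg.Agent.Lib.Invol.BaerSuzuki
import Cfsg.Prelude.Def_Solvable

/-!
`p`-stability of groups of odd order.
-/

set_option autoImplicit false
set_option linter.unusedSectionVars false
set_option linter.style.haveILetI false

namespace Cfsg.Agent.Lib.OddLocal

open Subgroup

open scoped commutatorElement

universe u

/-- Two conjugates of elements acting quadratically generate a `p`-group modulo the centralizer. -/
theorem quad_pair_pow {p : ℕ} [Fact p.Prime] (hp : p ≠ 2) {G : Type u} [Group G] [Finite G]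
    (hodd : Odd (Nat.card G)) (P : Subgroup G) [P.Normal] (hP : IsPGroup p P) (x y : G)
    (hx : ∀ w ∈ P, Commute ⁅w, x⁆ x) (hy : ∀ w ∈ P, Commute ⁅w, y⁆ y) (z : G)
    (hz : z ∈ closure ({x, y} : Set G)) :
    ∃ k : ℕ, ∀ w ∈ P, z ^ (p ^ k) * w = w * z ^ (p ^ k) := by
  classical
  have hpp : p.Prime := Fact.out
  let X : Subgroup G := P ⊔ closure ({x, y} : Set G)
  have hPX : P ≤ X := le_sup_left
  have hclX : closure ({x, y} : Set G) ≤ X := le_sup_right
  have hxX : x ∈ X := hclX (Subgroup.subset_closure (Set.mem_insert _ _))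
  have hyX : y ∈ X := hclX (Subgroup.subset_closure (Set.mem_insert_of_mem _ rfl))
  have hXodd : Odd (Nat.card X) := Odd.of_dvd_nat hodd (Subgroup.card_subgroup_dvd_card X)
  have hP' : IsPGroup p (P.subgroupOf X) := by
    intro g
    obtain ⟨k, hk⟩ := hP ⟨g.1.1, g.2⟩
    refine ⟨k, ?_⟩
    apply Subtype.ext
    apply Subtype.ext
    have h := congrArg Subtype.val hk
    exact h
  have hgen : P.subgroupOf X ⊔ closure ({⟨x, hxX⟩, ⟨y, hyX⟩} : Set X) = ⊤ := by
    apply Subgroup.map_injective X.subtype_injective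
    rw [Subgroup.map_sup, ← MonoidHom.range_eq_map, Subgroup.range_subtype, Subgroup.subgroupOf_map_subtype,
      MonoidHom.map_closure, Set.image_pair, inf_eq_left.mpr hPX]
    rfl
  obtain ⟨k, m, hord, hm⟩ := Nat.exists_eq_pow_mul_and_not_dvd
    (n := orderOf z) (orderOf_pos z).ne' p hpp.ne_one
  refine ⟨k, fun w hw => ?_⟩
  set t := z ^ (p ^ k) with ht
  have htX : t ∈ X := X.pow_mem (hclX hz) _
  have htm : t ^ m = 1 := by
    rw [ht, ← pow_mul, ← hm, pow_orderOf_eq_one]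
  have htc : (orderOf t).Coprime p := by
    have h1 := orderOf_dvd_of_pow_eq_one htm
    apply Nat.Coprime.coprime_dvd_left h1
    rw [Nat.coprime_comm]
    exact (Nat.Prime.coprime_iff_not_dvd hpp).mpr hord
  have h := quad_pair hp _ X hXodd (P.subgroupOf X) hP' ⟨x, hxX⟩ ⟨y, hyX⟩
    (by
      rintro ⟨w, hwX⟩ hw
      have h1 := hx w hw
      apply Subtype.ext
      exact h1)
    (by
      rintro ⟨w, hwX⟩ hw
      have h1 := hy w hw
      apply Subtype.ext
      exact h1)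
    hgen rfl ⟨t, htX⟩ (by rwa [Subgroup.orderOf_mk]) ⟨w, hPX hw⟩ hw
  exact congrArg Subtype.val h

/-- **`p`-stability**, normal case. -/
theorem pstable_normal {p : ℕ} [Fact p.Prime] (hp : p ≠ 2) {G : Type u} [Group G] [Finite G]
    (hodd : Odd (Nat.card G)) (P : Subgroup G) [P.Normal] (hP : IsPGroup p P)
    (C : Subgroup G) [hCn : C.Normal] (hC : ∀ g : G, (∀ w ∈ P, g * w = w * g) → g ∈ C)
    (A : Subgroup G) (hquad : ∀ a ∈ A, ∀ w ∈ P, Commute ⁅w, a⁆ a) (hA : IsPGroup p A) :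
    A.map (QuotientGroup.mk' C) ≤ Cfsg.pCore p (G ⧸ C) := by
  classical
  have hpp : p.Prime := Fact.out
  let π := QuotientGroup.mk' C
  have hπ : Function.Surjective π := QuotientGroup.mk'_surjective C
  let Δ : Set (G ⧸ C) := {b | ∃ (g : G) (a : G), a ∈ A ∧ b = π (g * a * g⁻¹)}
  have hΔ : Cfsg.Agent.Lib.Invol.ConjClosed Δ := by
    rintro _ ⟨g, a, ha, rfl⟩ h
    obtain ⟨h', rfl⟩ := hπ h
    refine ⟨h' * g, a, ha, ?_⟩
    simp only [map_mul, map_inv, mul_inv_rev, mul_assoc]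
  -- quadratic conjugates
  have hconjq : ∀ (g a : G), a ∈ A → ∀ w ∈ P, Commute ⁅w, g * a * g⁻¹⁆ (g * a * g⁻¹) := by
    intro g a ha w hw
    have hw' : g⁻¹ * w * g ∈ P := by
      have := (inferInstance : P.Normal).conj_mem w hw g⁻¹
      rwa [inv_inv] at this
    have h1 := hquad a ha _ hw'
    have h2 : ⁅w, g * a * g⁻¹⁆ = g * ⁅g⁻¹ * w * g, a⁆ * g⁻¹ := by
      simp only [commutatorElement_def]
      group
    rw [h2]
    exact (h1.map (MulAut.conj g).toMonoidHom : _)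
  have hpair : ∀ a ∈ Δ, ∀ b ∈ Δ, IsPGroup p (closure ({a, b} : Set (G ⧸ C))) := by
    rintro _ ⟨g₁, a₁, ha₁, rfl⟩ _ ⟨g₂, a₂, ha₂, rfl⟩
    set x := g₁ * a₁ * g₁⁻¹ with hx
    set y := g₂ * a₂ * g₂⁻¹ with hy
    rintro ⟨z', hz'⟩
    have h1 : closure ({π x, π y} : Set (G ⧸ C)) = (closure ({x, y} : Set G)).map π := by
      rw [MonoidHom.map_closure, Set.image_pair]
    rw [h1] at hz'
    obtain ⟨z, hz, rfl⟩ := hz'
    obtain ⟨k, hk⟩ := quad_pair_pow hp hodd P hP x y (hconjq g₁ a₁ ha₁) (hconjq g₂ a₂ ha₂) z hz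
    refine ⟨k, ?_⟩
    apply Subtype.ext
    have h2 : z ^ (p ^ k) ∈ C := hC _ hk
    change π z ^ (p ^ k) = 1
    rw [← map_pow]
    exact (QuotientGroup.eq_one_iff _).mpr h2
  have hcl := Cfsg.Agent.Lib.Invol.isPGroup_closure_of_pairs p _ rfl Δ hΔ hpair
  have hnorm : (closure Δ).Normal := by
    refine ⟨fun n hn g => ?_⟩
    induction hn using Subgroup.closure_induction with
    | mem a ha => exact Subgroup.subset_closure (hΔ a ha g)
    | one => simp
    | mul a b _ _ h1 h2 =>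
      have : g * (a * b) * g⁻¹ = (g * a * g⁻¹) * (g * b * g⁻¹) := by group
      rw [this]
      exact Subgroup.mul_mem _ h1 h2
    | inv a _ h1 =>
      have : g * a⁻¹ * g⁻¹ = (g * a * g⁻¹)⁻¹ := by group
      rw [this]
      exact Subgroup.inv_mem _ h1
  have hle : closure Δ ≤ Cfsg.pCore p (G ⧸ C) := le_sSup ⟨hnorm, hcl⟩
  rintro _ ⟨a, ha, rfl⟩
  apply hle
  apply Subgroup.subset_closure
  exact ⟨1, a, ha, by simp; rfl⟩

end Cfsg.Agent.Lib.OddLocal
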