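import Cfsg.Agent.Lib.OddLocal.CNNil

/-!
Solvable CN groups without nontrivial normal Sylow subgroups are three-step groups.
-/

set_option autoImplicit false
set_option linter.unusedSectionVars false
set_option linter.style.haveILetI false

namespace Cfsg.Agent.Lib.OddLocal

open Subgroup Cfsg
open Cfsg.Agent.Lib.PGroups (exists_orderOf_of_mem_isPGroup mem_of_primary_powers isPGroup_zpowers_iff
  orderOf_conj_eq exists_pPart)

variable {G : Type*} [Group G]

theorem threeStep_of_no_normal_sylow [Finite G] [Group.IsSolvable G] (hCN : IsCNGroup G)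
    (hnn : ¬ Group.IsNilpotent G)
    (hS : ∀ (p : ℕ) [Fact p.Prime] (S : Sylow p G), (S : Subgroup G).Normal → (S : Subgroup G) = ⊥) :
    ∃ p : ℕ, p.Prime ∧ IsThreeStepGroup p G := by
  haveI hnt : Nontrivial G := by
    by_contra h
    rw [not_nontrivial_iff_subsingleton] at h
    exact hnn inferInstance
  obtain ⟨p, N, hp, hNn, hN1, -, hNp⟩ := Cfsg.Agent.Lib.Basic.exists_normal_abelian_pSubgroup (G := G)
  haveI : Fact p.Prime := ⟨hp⟩
  have hPn : (pCore p G).Normal := Cfsg.Agent.Lib.Basic.pCore_normal p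
  have hPp : IsPGroup p (pCore p G) := Cfsg.Agent.Lib.Basic.pCore_isPGroup p
  have hP1 : pCore p G ≠ ⊥ := fun e => hN1 (le_bot_iff.mp (e ▸ Cfsg.Agent.Lib.Basic.le_pCore hNn hNp))
  -- O_{p'}(G) = 1
  have hcore : pPrimeCore p G = ⊥ := by
    by_contra hD1
    have hDn : (pPrimeCore p G).Normal := Cfsg.Agent.Lib.Basic.pPrimeCore_normal p
    have hDc : (Nat.card (pPrimeCore p G)).Coprime p := Cfsg.Agent.Lib.Basic.pPrimeCore_coprime p
    obtain ⟨T⟩ : Nonempty (Sylow p G) := inferInstance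
    have hPT : pCore p G ≤ T := Cfsg.Agent.Lib.Basic.pCore_le_sylow T
    obtain ⟨z, hz, hz1, hzT⟩ := exists_central_of_normal hPT hP1 T.isPGroup'.isNilpotent
      (fun w _ => normalizer_eq_top_iff.mpr hPn ▸ mem_top w)
    have hDord : ∀ d ∈ pPrimeCore p G, (orderOf d).Coprime p := fun d hd =>
      Nat.Coprime.coprime_dvd_left (Subgroup.orderOf_dvd_natCard _ hd) hDc
    have hdisj : Disjoint (pPrimeCore p G) (pCore p G) := by
      apply Subgroup.disjoint_of_coprime_natCard
      obtain ⟨n, hn⟩ := hPp.exists_card_eq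
      rw [hn]
      exact Nat.Coprime.pow_right _ hDc
    have hDz : ∀ d ∈ pPrimeCore p G, z * d = d * z := fun d hd =>
      (Subgroup.commute_of_normal_of_disjoint _ _ hDn hPn hdisj d z hd hz).symm
    have hTD : ∀ t ∈ (T : Subgroup G), ∀ d ∈ pPrimeCore p G, t * d = d * t := by
      intro t ht d hd
      have h1 : t ∈ centralizer ({z} : Set G) := mem_centralizer_singleton'.mpr (hzT t ht)
      have h2 : d ∈ centralizer ({z} : Set G) := mem_centralizer_singleton'.mpr (hDz d hd)
      obtain ⟨k, hk⟩ := exists_orderOf_of_mem_isPGroup T.isPGroup' ht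
      exact comm_of_coprime_of_nilpotent_subgroup (hCN z hz1) h1 h2 (by
        rw [hk]
        exact Nat.Coprime.pow_left _ (hDord d hd).symm)
    obtain ⟨u, hu⟩ := Subgroup.ne_bot_iff_exists_ne_one.mp hD1
    have hu1 : (u : G) ≠ 1 := fun e => hu (Subtype.ext e)
    set C := centralizer ((pPrimeCore p G : Subgroup G) : Set G) with hC
    have hCn : C.Normal := inferInstance
    have hCnil : Group.IsNilpotent C :=
      Cfsg.Agent.Lib.Basic.isNilpotent_of_le (Subgroup.centralizer_le (by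
        rintro _ rfl
        exact u.2)) (hCN u hu1)
    have hTC : (T : Subgroup G) ≤ C := by
      intro t ht
      rw [hC, Subgroup.mem_centralizer_iff]
      intro d hd
      exact (hTD t ht d hd).symm
    have hTO : (T : Subgroup G) ≤ Oq p C := by
      intro t ht
      obtain ⟨k, hk⟩ := exists_orderOf_of_mem_isPGroup T.isPGroup' ht
      exact mem_Oq hCnil (hTC ht) (k := k) (by rw [← hk]; exact pow_orderOf_eq_one t)
    have hOe : Oq p C = (T : Subgroup G) := T.is_maximal' (Oq_isPGroup p C) hTO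
    have hTn : (T : Subgroup G).Normal := by
      rw [← hOe, ← Subgroup.normalizer_eq_top_iff, eq_top_iff]
      intro y _
      exact mem_normalizer_Oq hCnil (Subgroup.normalizer_eq_top_iff.mpr hCn ▸ Subgroup.mem_top y)
    have := hS p T hTn
    exact hP1 (le_bot_iff.mp (this ▸ hPT))
  have hCP : centralizer (pCore p G : Set G) ≤ pCore p G := centralizer_pCore_le hcore
  -- p'-elements act fpf
  have hfp : ∀ y : G, (orderOf y).Coprime p → y ≠ 1 → ∀ h ∈ pCore p G, h * y = y * h → h = 1 := by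
    intro y hy hy1 h hh hc
    by_contra hh1
    have h1 := hCP (comm_of_fixed hCN hPp hy hh hh1 hc)
    obtain ⟨k, hk⟩ := exists_orderOf_of_mem_isPGroup hPp h1
    rw [hk] at hy
    have : orderOf y = 1 := by
      have h2 : (p ^ k).Coprime (p ^ k) := Nat.Coprime.pow_right _ hy
      rw [hk]
      exact Nat.coprime_self _ |>.mp h2
    exact hy1 (orderOf_eq_one_iff.mp this)
  -- the Hall subgroup
  obtain ⟨a, m, hm, hcard⟩ := Nat.exists_eq_pow_mul_and_not_dvd (Nat.card_pos (α := G)).ne' p hp.ne_one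
  have hmc : m.Coprime (p ^ a) := Nat.Coprime.pow_right _ ((Nat.Prime.coprime_iff_not_dvd hp).mpr hm).symm
  obtain ⟨M, hMcard⟩ := Cfsg.Agent.Lib.Basic.hall_exists _ m (p ^ a) rfl (by rw [hcard]; ring) hmc
  have hMidx : M.index = p ^ a := by
    have h1 := Subgroup.card_mul_index M
    rw [hMcard, hcard, mul_comm (p ^ a)] at h1
    exact Nat.eq_of_mul_eq_mul_left (Nat.pos_of_ne_zero (by
      rintro rfl
      simp at hm)) h1
  have hMp : ∀ e ∈ M, (orderOf e).Coprime p := fun e he =>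
    Nat.Coprime.coprime_dvd_left (Subgroup.orderOf_dvd_natCard M he) (by
      rw [hMcard]; exact ((Nat.Prime.coprime_iff_not_dvd hp).mpr hm).symm)
  have hMcp : (Nat.card M).Coprime p := by
    rw [hMcard]; exact ((Nat.Prime.coprime_iff_not_dvd hp).mpr hm).symm
  have hM1 : M ≠ ⊥ := by
    intro e
    apply hnn
    rw [e, Subgroup.card_bot] at hMcard
    rw [← hMcard, mul_one] at hcard
    exact (IsPGroup.of_card hcard).isNilpotent
  have hMnil : Group.IsNilpotent M :=
    isNilpotent_of_fpf hCN hPp hPn hP1 hMp (fun e he he1 h hh hc => hfp e (hMp e he) he1 h hh hc)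
  have hMP : ∀ u ∈ M, u ∈ pCore p G → u = 1 := by
    intro u hu hu'
    have h1 := hMp u hu
    obtain ⟨k, hk⟩ := exists_orderOf_of_mem_isPGroup hPp hu'
    rw [hk] at h1
    have : orderOf u = 1 := by
      have h2 : (p ^ k).Coprime (p ^ k) := Nat.Coprime.pow_right _ h1
      rw [hk]
      exact Nat.coprime_self _ |>.mp h2
    exact orderOf_eq_one_iff.mp this
  -- the quotient
  haveI := hPn
  have hPsolv : Group.IsSolvable (pCore p G) := by
    have := hPp.isNilpotent
    infer_instance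
  have hCNb : IsCNGroup (G ⧸ pCore p G) := Cfsg.Agent.S1473.result hCN _ hPsolv
  set π := QuotientGroup.mk' (pCore p G) with hπ
  have hπs : Function.Surjective π := QuotientGroup.mk'_surjective _
  have hπker : ∀ x, π x = 1 ↔ x ∈ pCore p G := by
    intro x
    rw [hπ, QuotientGroup.mk'_apply, QuotientGroup.eq_one_iff]
  have hPtop : pCore p G ≠ ⊤ := by
    intro e
    apply hnn
    have : IsPGroup p G := by
      intro g
      obtain ⟨k, hk⟩ := hPp ⟨g, e ▸ Subgroup.mem_top g⟩
      refine ⟨k, ?_⟩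
      have := congrArg Subtype.val hk
      simpa using this
    exact this.isNilpotent
  haveI hQnt : Nontrivial (G ⧸ pCore p G) := by
    rw [QuotientGroup.nontrivial_iff]
    exact hPtop
  obtain ⟨r, R, hr, hRn, hR1, -, hRp⟩ := Cfsg.Agent.Lib.Basic.exists_normal_abelian_pSubgroup (G := G ⧸ pCore p G)
  haveI : Fact r.Prime := ⟨hr⟩
  have hrp : r ≠ p := by
    rintro rfl
    have h1 : IsPGroup r (R.comap π) := by
      obtain ⟨i, hi⟩ := hPp.exists_card_eq
      obtain ⟨j, hj⟩ := hRp.exists_card_eq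
      refine IsPGroup.of_card (n := i + j) ?_
      rw [card_comap_mk, hi, hj, pow_add]
    have h2 : R.comap π ≤ pCore r G := Cfsg.Agent.Lib.Basic.le_pCore (hRn.comap π) h1
    apply hR1
    rw [eq_bot_iff]
    intro x hx
    obtain ⟨g, rfl⟩ := hπs x
    have h3 : g ∈ pCore r G := h2 hx
    rw [Subgroup.mem_bot]
    exact (hπker g).mpr h3
  -- images
  have hMbnil : Group.IsNilpotent (M.map π) := isNilpotent_map π hMnil
  obtain ⟨b, -, hb⟩ := (Nat.dvd_prime_pow hp).mp (show (M.map π).index ∣ p ^ a from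
    hMidx ▸ Subgroup.index_map_dvd M hπs)
  have hRM : R ≤ M.map π := by
    apply le_of_normal_coprime_index hRn
    obtain ⟨j, hj⟩ := hRp.exists_card_eq
    rw [hj, hb]
    exact Nat.Coprime.pow _ _ ((Nat.coprime_primes hr hp).mpr hrp)
  -- unique subgroups of prime order
  have hUq : ∀ (q : ℕ) [Fact q.Prime], ∀ x ∈ M, ∀ y ∈ M, x ^ q = 1 → x ≠ 1 → y ^ q = 1 → y ∈ zpowers x := by
    intro q _ x hx y hy hxq hx1 hyq
    have hxT : x ∈ Oq q M := mem_Oq hMnil hx (k := 1) (by rwa [pow_one])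
    have hyT : y ∈ Oq q M := mem_Oq hMnil hy (k := 1) (by rwa [pow_one])
    have hu := uniqueP_of_fpf hP1 (Oq_isPGroup q M) (by
      intro h hh hh1
      rw [eq_bot_iff]
      intro w hw
      obtain ⟨hw1, hw2⟩ := Subgroup.mem_inf.mp hw
      rw [Subgroup.mem_bot]
      exact hfp h (hMp h (Oq_le q M hh)) hh1 w hw1 (by
        have := Subgroup.mem_centralizer_iff.mp hw2 h rfl
        exact this.symm))
    obtain ⟨k, hk⟩ := hu.mem_zpowers (x := ⟨x, hxT⟩) (y := ⟨y, hyT⟩)
      (Subtype.ext (by simpa using hxq)) (fun e => hx1 (congrArg Subtype.val e))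
      (Subtype.ext (by simpa using hyq))
    refine ⟨k, ?_⟩
    have := congrArg Subtype.val hk
    simpa using this
  have hUqb : ∀ (q : ℕ) [Fact q.Prime], ∀ x ∈ M.map π, ∀ y ∈ M.map π, x ^ q = 1 → x ≠ 1 → y ^ q = 1 →
      y ∈ zpowers x := by
    intro q _ x hx y hy hxq hx1 hyq
    obtain ⟨x₀, hx₀, rfl⟩ := hx
    obtain ⟨y₀, hy₀, rfl⟩ := hy
    have hlift : ∀ u ∈ M, (π u) ^ q = 1 → u ^ q = 1 := by
      intro u hu hu1
      apply hMP _ (M.pow_mem hu q)
      rw [← hπker, map_pow]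
      exact hu1
    have h1 := hUq q x₀ hx₀ y₀ hy₀ (hlift _ hx₀ hxq) (fun e => hx1 (by rw [e, map_one])) (hlift _ hy₀ hyq)
    obtain ⟨k, hk⟩ := h1
    exact ⟨k, by simp only; rw [← map_zpow, ← hk]⟩
  -- an element of order r in R
  obtain ⟨j, hj⟩ := hRp.exists_card_eq
  have hj0 : j ≠ 0 := by
    rintro rfl
    rw [pow_zero] at hj
    exact hR1 (Subgroup.card_eq_one.mp hj)
  obtain ⟨z₀, hz₀⟩ := exists_prime_orderOf_dvd_card' (G := R) r (by rw [hj]; exact dvd_pow_self r hj0)
  set z : G ⧸ pCore p G := (z₀ : G ⧸ pCore p G) with hz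
  have hzord : orderOf z = r := by rw [hz, Subgroup.orderOf_coe]; exact hz₀
  have hzr : z ^ r = 1 := by rw [← hzord]; exact pow_orderOf_eq_one z
  have hz1 : z ≠ 1 := by
    intro e
    rw [e, orderOf_one] at hzord
    exact hr.one_lt.ne hzord
  have hzR : z ∈ R := z₀.2
  have hzM : z ∈ M.map π := hRM hzR
  have hconj : ∀ g : G ⧸ pCore p G, g * z * g⁻¹ ∈ zpowers z := by
    intro g
    refine hUqb r z hzM _ (hRM (hRn.conj_mem z hzR g)) hzr hz1 ?_
    rw [conj_pow, hzr]
    group
  have hZn : (zpowers z).Normal := by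
    refine ⟨?_⟩
    rintro _ ⟨k, rfl⟩ g
    simp only
    rw [← conj_zpow]
    exact Subgroup.zpow_mem _ (hconj g) k
  have hZM : zpowers z ≤ M.map π := Subgroup.zpowers_le.mpr hzM
  have hZ1 : zpowers z ≠ ⊥ := by
    rw [ne_eq, Subgroup.zpowers_eq_bot]
    exact hz1
  obtain ⟨u, hu, hu1, huc⟩ := exists_central_of_normal hZM hZ1 hMbnil
    (fun w _ => normalizer_eq_top_iff.mpr hZn ▸ mem_top w)
  have hur : u ^ r = 1 := by
    obtain ⟨k, rfl⟩ := hu
    simp only
    rw [← zpow_natCast, ← zpow_mul, mul_comm, zpow_mul, zpow_natCast, hzr, one_zpow]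
  have hzu : z ∈ zpowers u := hUqb r u (hZM hu) z hzM hur hu1 hzr
  have hMbz : ∀ w ∈ M.map π, z * w = w * z := by
    intro w hw
    obtain ⟨k, hk⟩ := hzu
    simp only at hk
    rw [← hk]
    exact (show Commute u w from huc w hw).zpow_left k
  haveI := hZn
  set Cb := centralizer ((zpowers z : Subgroup (G ⧸ pCore p G)) : Set (G ⧸ pCore p G)) with hCb
  have hCbn : Cb.Normal := inferInstance
  have hCbnil : Group.IsNilpotent Cb :=
    Cfsg.Agent.Lib.Basic.isNilpotent_of_le (Subgroup.centralizer_le (by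
      rintro _ rfl
      exact mem_zpowers z)) (hCNb z hz1)
  have hMbC : M.map π ≤ Cb := by
    intro w hw
    rw [hCb, Subgroup.mem_centralizer_iff]
    rintro _ ⟨k, rfl⟩
    exact (show Commute z w from hMbz w hw).zpow_left k
  have hMbord : ∀ w ∈ M.map π, (orderOf w).Coprime p := by
    rintro _ ⟨w, hw, rfl⟩
    exact Nat.Coprime.coprime_dvd_left (orderOf_map_dvd π w) (hMp w hw)
  have hDbn : (Oq' p Cb).Normal := by
    rw [← Subgroup.normalizer_eq_top_iff, eq_top_iff]
    intro y _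
    exact mem_normalizer_Oq' hCbnil (Subgroup.normalizer_eq_top_iff.mpr hCbn ▸ Subgroup.mem_top y)
  have hMD : M.map π ≤ Oq' p Cb := fun w hw => mem_Oq' hCbnil (hMbC hw) (hMbord w hw)
  have hDM : Oq' p Cb ≤ M.map π := by
    apply le_of_normal_coprime_index hDbn
    rw [hb]
    exact Nat.Coprime.pow_right _ (Oq'_card_coprime p Cb)
  have hMbn : (M.map π).Normal := by
    rw [le_antisymm hMD hDM]
    exact hDbn
  have hNeq : (M.map π).comap π = M ⊔ pCore p G := by
    rw [Subgroup.comap_map_eq, hπ, QuotientGroup.ker_mk']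
  have hNn : (pCore p G ⊔ M).Normal := by
    rw [sup_comm, ← hNeq]
    exact hMbn.comap π
  obtain ⟨n, -, hn⟩ := (Nat.dvd_prime_pow hp).mp (show (pCore p G ⊔ M).index ∣ p ^ a from
    hMidx ▸ Subgroup.index_dvd_of_le le_sup_right)
  have hNtop : pCore p G ⊔ M ≠ ⊤ := by
    intro e
    obtain ⟨T⟩ : Nonempty (Sylow p G) := inferInstance
    have hPT : pCore p G ≤ T := Cfsg.Agent.Lib.Basic.pCore_le_sylow T
    have h1 : Nat.card G ∣ Nat.card (pCore p G) * Nat.card M := by
      have := card_sup_dvd_of_normal M (pCore p G) hPn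
      rw [sup_comm, e, Subgroup.card_top] at this
      rwa [mul_comm]
    have hm0 : 0 < m := Nat.pos_of_ne_zero (by
      rintro rfl
      simp at hm)
    have h2 : p ^ a ∣ Nat.card (pCore p G) := by
      rw [hcard, hMcard] at h1
      exact Nat.dvd_of_mul_dvd_mul_right hm0 h1
    have h3 : Nat.card (T : Subgroup G) ∣ p ^ a := by
      obtain ⟨i, hi⟩ := T.isPGroup'.exists_card_eq
      have h4 := Subgroup.card_subgroup_dvd_card (T : Subgroup G)
      rw [hi, hcard] at h4
      rw [hi]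
      exact Nat.Coprime.dvd_of_dvd_mul_right (Nat.Coprime.pow_left _ ((Nat.Prime.coprime_iff_not_dvd hp).mpr hm)) h4
    have h5 : pCore p G = T := Subgroup.eq_of_le_of_card_ge hPT
      (Nat.le_of_dvd Nat.card_pos (h3.trans h2))
    have h6 := hS p T (h5 ▸ hPn)
    exact hP1 (by rw [h5, h6])
  -- p-parts of elements outside
  have hpelem : ∀ x : G, x ∉ pCore p G ⊔ M → ∃ t ∈ zpowers x, (∃ k : ℕ, orderOf t = p ^ k) ∧ t ∉ pCore p G ⊔ M := by
    intro x hx
    obtain ⟨t, c, e, -, ht, hc, htz, hcz⟩ := exists_pPart p x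
    refine ⟨t, htz, ht, ?_⟩
    intro htN
    apply hx
    have hcc : (orderOf c).Coprime p := ((Nat.Prime.coprime_iff_not_dvd hp).mpr hc).symm
    have hcN : c ∈ pCore p G ⊔ M := by
      have h1 : c ^ (pCore p G ⊔ M).index ∈ pCore p G ⊔ M := Subgroup.pow_index_mem _ c
      rw [hn] at h1
      exact Cfsg.Agent.Lib.Struct.mem_of_pow_mem_of_coprime _ (Nat.Coprime.pow_right _ hcc) h1
    rw [e]
    exact Subgroup.mul_mem _ htN hcN
  have hPN : pCore p G ≤ pCore p G ⊔ M := le_sup_left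
  -- odd order
  have hodd : Odd (Nat.card M) := by
    by_contra hev
    rw [Nat.not_odd_iff_even, even_iff_two_dvd] at hev
    haveI : Fact (Nat.Prime 2) := ⟨Nat.prime_two⟩
    obtain ⟨i₀, hi₀⟩ := exists_prime_orderOf_dvd_card' (G := M) 2 hev
    set i : G := (i₀ : G) with hi
    have hiM : i ∈ M := i₀.2
    have hiord : orderOf i = 2 := by rw [hi, Subgroup.orderOf_coe]; exact hi₀
    have hi2 : i ^ 2 = 1 := by rw [← hiord]; exact pow_orderOf_eq_one i
    have hi1 : i ≠ 1 := by
      intro e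
      rw [e, orderOf_one] at hiord
      omega
    have hπi1 : π i ≠ 1 := by
      intro e
      exact hi1 (hMP i hiM ((hπker i).mp e))
    have hπi2 : (π i) ^ 2 = 1 := by rw [← map_pow, hi2, map_one]
    obtain ⟨x, hx⟩ : ∃ x, x ∉ pCore p G ⊔ M := by
      by_contra h
      push Not at h
      exact hNtop (eq_top_iff.mpr fun x _ => h x)
    obtain ⟨t, -, htp, htN⟩ := hpelem x hx
    refine not_comm_mod hCN hPp hPn hP1 hfp htp (fun h => htN (hPN h)) (hMp i hiM) hi1 ?_
    rw [commutator_mem_iff_comm_mod]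
    have h1 := hUqb 2 (π i) ⟨i, hiM, rfl⟩ (π t * π i * (π t)⁻¹) (hMbn.conj_mem _ ⟨i, hiM, rfl⟩ _) hπi2 hπi1 (by
      rw [conj_pow, hπi2]
      group)
    obtain ⟨k, hk⟩ := h1
    simp only at hk
    have hzp2 : (π i) ^ (2 : ℤ) = 1 := by exact_mod_cast hπi2
    have h2 : π t * π i * (π t)⁻¹ = π i := by
      rcases Int.even_or_odd' k with ⟨l, rfl | rfl⟩
      · exfalso
        rw [zpow_mul, hzp2, one_zpow] at hk
        apply hπi1
        have h3 : π t * π i = π t := mul_inv_eq_one.mp hk.symm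
        exact mul_left_cancel (h3.trans (mul_one _).symm)
      · rw [zpow_add, zpow_mul, hzp2, one_zpow, one_mul, zpow_one] at hk
        exact hk.symm
    exact mul_inv_eq_iff_eq_mul.mp h2
  have hMcyc : IsCyclic M := isCyclic_of_fpf_odd hP1 hMnil hodd (by
    intro h hh hh1
    rw [eq_bot_iff]
    intro w hw
    obtain ⟨hw1, hw2⟩ := Subgroup.mem_inf.mp hw
    rw [Subgroup.mem_bot]
    exact hfp h (hMp h hh) hh1 w hw1 (Subgroup.mem_centralizer_iff.mp hw2 h rfl).symm)
  refine ⟨p, hp, hP1, M, hM1, hMcyc, hodd, hMcp, hNn, hNtop, ⟨n, hn⟩, ?_, ?_⟩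
  · intro e he he1
    rw [eq_bot_iff]
    intro w hw
    obtain ⟨hw1, hw2⟩ := Subgroup.mem_inf.mp hw
    rw [Subgroup.mem_bot]
    exact hfp e (hMp e he) he1 w hw1 (Subgroup.mem_centralizer_iff.mp hw2 e rfl).symm
  · intro x hx c hc hc1 hcomm
    obtain ⟨t, ⟨k, rfl⟩, htp, htN⟩ := hpelem x hx
    refine not_comm_mod hCN hPp hPn hP1 hfp htp (fun h => htN (hPN h)) (hMp c hc) hc1 ?_
    rw [commutator_mem_iff_comm_mod] at hcomm ⊢
    simp only [QuotientGroup.mk_zpow]
    exact hcomm.zpow_left k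

end Cfsg.Agent.Lib.OddLocal
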