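import Cfsg.Agent.Lib.OddLocal.UniqueP2
import Cfsg.Agent.Lib.Coprime.Partition
import Cfsg.Agent.Lib.OddLocal.HallHigman

/-!
Sylow subgroups of Frobenius complements.
-/

set_option autoImplicit false
set_option linter.unusedSectionVars false
set_option linter.style.haveILetI false

namespace Cfsg.Agent.Lib.OddLocal

open Subgroup
open Cfsg

variable {G : Type*} [Group G] [Finite G]

/-- An element of order `p` acting without fixed points on `K`: `p` does not divide `#K`. -/
theorem coprime_of_fpf_prime {p : ℕ} [Fact p.Prime] {K : Subgroup G} [hKn : K.Normal] {y : G} (hy : y ^ p = 1)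
    (hfpf : ∀ k ∈ K, k * y = y * k → k = 1) : Nat.Coprime p (Nat.card K) := by
  have hp : p.Prime := Fact.out
  rw [Nat.Prime.coprime_iff_not_dvd hp]
  intro hdvd
  classical
  haveI : Fintype K := Fintype.ofFinite K
  -- the permutation of `K` by conjugation
  let σ : Equiv.Perm K :=
    { toFun := fun k => ⟨y * k * y⁻¹, hKn.conj_mem k k.2 y⟩
      invFun := fun k => ⟨y⁻¹ * k * y, by simpa using hKn.conj_mem k k.2 y⁻¹⟩
      left_inv := fun k => by apply Subtype.ext; simp [mul_assoc]
      right_inv := fun k => by apply Subtype.ext; simp [mul_assoc] }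
  have hσ : ∀ (n : ℕ) (k : K), (((σ ^ n) k : K) : G) = y ^ n * k * (y ^ n)⁻¹ := by
    intro n
    induction n with
    | zero => intro k; simp
    | succ n ih =>
      intro k
      rw [pow_succ', Equiv.Perm.mul_apply]
      change y * (((σ ^ n) k : K) : G) * y⁻¹ = _
      rw [ih k, pow_succ']
      group
  have hσp : σ ^ p = 1 := by
    ext k
    rw [hσ, hy]
    simp
  have hfix : Function.fixedPoints σ = {1} := by
    ext k
    simp only [Function.mem_fixedPoints, Function.IsFixedPt, Set.mem_singleton_iff]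
    constructor
    · intro hk
      have h1 : y * (k : G) * y⁻¹ = k := congrArg Subtype.val hk
      have h2 : (k : G) = 1 := hfpf k k.2 (by
        rw [eq_comm, ← mul_inv_eq_iff_eq_mul]
        exact h1)
      exact Subtype.ext h2
    · rintro rfl
      apply Subtype.ext
      change y * 1 * y⁻¹ = 1
      group
  have hpg : IsPGroup p (zpowers σ) := by
    obtain ⟨k, -, hk⟩ := (Nat.dvd_prime_pow hp).mp (show orderOf σ ∣ p ^ 1 by
      rw [pow_one]; exact orderOf_dvd_of_pow_eq_one hσp)
    exact IsPGroup.of_card (n := k) (by rw [Nat.card_zpowers, hk])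
  have hmod := hpg.card_modEq_card_fixedPoints K
  have hfixcard : Nat.card (MulAction.fixedPoints (zpowers σ) K) = 1 := by
    have he : MulAction.fixedPoints (zpowers σ) K = ({1} : Set K) := by
      ext k
      simp only [MulAction.mem_fixedPoints, Set.mem_singleton_iff]
      constructor
      · intro hk
        have h2 : k ∈ Function.fixedPoints σ := hk ⟨σ, mem_zpowers σ⟩
        rw [hfix] at h2
        exact h2
      · rintro rfl ⟨τ, hτ⟩
        obtain ⟨n, rfl⟩ := hτ
        change ((σ ^ n) 1 : K) = 1
        have h3 : (1 : K) ∈ Function.fixedPoints σ := by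
          rw [hfix]; exact rfl
        have h4 : Function.IsFixedPt (σ : K → K) 1 := h3
        have h5 := Equiv.Perm.zpow_apply_eq_self_of_apply_eq_self h4 n
        exact h5
    rw [he]
    simp
  rw [hfixcard] at hmod
  have h7 : p ∣ 1 := by
    have := (Nat.modEq_iff_dvd' (Nat.card_pos)).mp hmod.symm
    exact (Nat.dvd_sub_iff_right (by exact Nat.card_pos) hdvd).mp this
  exact hp.one_lt.ne' (Nat.dvd_one.mp h7)

/-- Fixed-point-free actions of `p`-groups: there is a unique subgroup of order `p`. -/
theorem uniqueP_of_fpf {p : ℕ} [Fact p.Prime] {K T : Subgroup G} [hKn : K.Normal] (hK : K ≠ ⊥)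
    (hT : IsPGroup p T) (hfpf : ∀ h ∈ T, h ≠ 1 → K ⊓ centralizer {h} = ⊥) : UniqueP p T := by
  have hp : p.Prime := Fact.out
  by_cases hTb : Nat.card T = 1
  · intro B₁ B₂ hB₁ hB₂
    have h1 : Nat.card B₁ ≤ Nat.card T := Subgroup.card_le_card_group B₁
    have := hp.one_lt
    omega
  haveI hTnt : Nontrivial T := (Finite.one_lt_card_iff_nontrivial).mp (by
    have : 0 < Nat.card T := Nat.card_pos
    omega)
  haveI := hT.center_nontrivial
  have hZp : IsPGroup p (center T) := hT.to_subgroup _
  obtain ⟨k, hk⟩ := hZp.exists_card_eq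
  have hk0 : k ≠ 0 := by
    rintro rfl
    rw [pow_zero] at hk
    have := Finite.one_lt_card (α := center T)
    omega
  obtain ⟨z, hz⟩ := exists_prime_orderOf_dvd_card' (G := center T) p (by rw [hk]; exact dvd_pow_self p hk0)
  have hzord : orderOf (z : T) = p := by rw [Subgroup.orderOf_coe]; exact hz
  have hzord' : orderOf ((z : T) : G) = p := by rw [Subgroup.orderOf_coe]; exact hzord
  have hz1 : ((z : T) : G) ≠ 1 := by
    intro e
    rw [e, orderOf_one] at hzord'
    exact hp.one_lt.ne hzord'
  have hzp : ((z : T) : G) ^ p = 1 := by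
    rw [← hzord']; exact pow_orderOf_eq_one _
  have hfix : ∀ k ∈ K, k * ((z : T) : G) = ((z : T) : G) * k → k = 1 := by
    intro k hk hc
    have h1 : k ∈ K ⊓ centralizer {((z : T) : G)} := Subgroup.mem_inf.mpr ⟨hk, by
      rw [Subgroup.mem_centralizer_iff]
      intro g hg
      rw [Set.mem_singleton_iff] at hg
      rw [hg]
      exact hc.symm⟩
    rw [hfpf _ (z : T).2 hz1] at h1
    exact h1
  have hcop := coprime_of_fpf_prime hzp hfix
  have key : ∀ x : T, x ^ p = 1 → x ∈ zpowers (z : T) := by
    intro x hx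
    by_contra hxz
    have hxz' : (x : G) ∉ zpowers ((z : T) : G) := by
      rintro ⟨n, hn⟩
      apply hxz
      refine ⟨n, Subtype.ext ?_⟩
      simpa using hn
    have hx' : (x : G) ^ p = 1 := by
      have := congrArg Subtype.val hx
      simpa using this
    have hxz1 : ((z : T) : G) * (x : G) = x * ((z : T) : G) := by
      have := Subgroup.mem_center_iff.mp z.2 x
      exact (congrArg Subtype.val this).symm
    have hE0 : IsElementaryAbelian p (zpowers ((z : T) : G)) := by
      refine ⟨inferInstance, ?_⟩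
      rintro _ ⟨n, rfl⟩
      simp only
      rw [← zpow_natCast, ← zpow_mul, mul_comm, zpow_mul, zpow_natCast, hzp, one_zpow]
    have hE := isElementaryAbelian_sup_zpowers (y := (x : G)) hE0 hx' (by
      rintro _ ⟨n, rfl⟩
      exact (Commute.zpow_left (show Commute ((z : T) : G) (x : G) from hxz1) n).symm)
    set A : Subgroup G := zpowers ((z : T) : G) ⊔ zpowers (x : G) with hA
    have hAT : A ≤ T := by
      rw [hA, sup_le_iff, Subgroup.zpowers_le, Subgroup.zpowers_le]
      exact ⟨(z : T).2, x.2⟩
    have hAcard : Nat.Coprime (Nat.card A) (Nat.card K) := by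
      have hAp : IsPGroup p A := by
        have h1 : IsPGroup p (A.subgroupOf T) := hT.to_subgroup _
        have h2 := (Subgroup.subgroupOfEquivOfLe hAT).toEquiv
        exact h1.of_equiv (Subgroup.subgroupOfEquivOfLe hAT)
      obtain ⟨n, hn⟩ := hAp.exists_card_eq
      rw [hn]
      exact Nat.Coprime.pow_left _ hcop
    have hgen := Cfsg.Agent.Lib.Coprime.le_iSup_centralizer_of_abelian_action hE.1 _ K rfl (by
      intro a _
      rw [Subgroup.mem_normalizer_iff]
      intro h
      constructor
      · intro hh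
        exact hKn.conj_mem h hh a
      · intro hh
        have := hKn.conj_mem _ hh a⁻¹
        simpa [mul_assoc] using this) hAcard
    apply hK
    rw [eq_bot_iff]
    refine hgen.trans (iSup₂_le ?_)
    rintro B ⟨hBA, a, ha, hBa⟩
    have hB1 : B ≠ ⊥ := by
      rintro rfl
      rw [bot_sup_eq] at hBa
      have ha1 : a ^ p = 1 := hE.2 a ha
      have hcz : Nat.card (zpowers a) ≤ p := by
        rw [Nat.card_zpowers]
        exact Nat.le_of_dvd hp.pos (orderOf_dvd_of_pow_eq_one ha1)
      have h1 : zpowers ((z : T) : G) ≤ zpowers a := by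
        rw [hBa, hA]; exact le_sup_left
      have h2 : zpowers ((z : T) : G) = zpowers a := Subgroup.eq_of_le_of_card_ge h1 (by
        rw [Nat.card_zpowers ((z : T) : G), hzord']; exact hcz)
      apply hxz'
      rw [h2, hBa, hA]
      exact (le_sup_right : zpowers (x : G) ≤ _) (mem_zpowers _)
    obtain ⟨u, hu⟩ := Subgroup.ne_bot_iff_exists_ne_one.mp hB1
    have hu1 : (u : G) ≠ 1 := fun e => hu (Subtype.ext e)
    have h1 := hfpf _ (hAT (hBA u.2)) hu1
    rw [← h1]
    intro w hw
    obtain ⟨hw1, hw2⟩ := Subgroup.mem_inf.mp hw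
    refine Subgroup.mem_inf.mpr ⟨hw1, ?_⟩
    rw [Subgroup.mem_centralizer_iff] at hw2 ⊢
    intro g hg
    rw [Set.mem_singleton_iff] at hg
    rw [hg]
    exact hw2 _ u.2
  have hall : ∀ B : Subgroup T, Nat.card B = p → B = zpowers (z : T) := by
    intro B hB
    have h1 : B ≤ zpowers (z : T) := by
      intro x hx
      apply key
      have h2 : (⟨x, hx⟩ : B) ^ p = 1 := by
        rw [← hB]; exact pow_card_eq_one'
      exact congrArg Subtype.val h2
    exact Subgroup.eq_of_le_of_card_ge h1 (by rw [Nat.card_zpowers, hzord, hB])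
  intro B₁ B₂ hB₁ hB₂
  rw [hall B₁ hB₁, hall B₂ hB₂]

/-- Frobenius complements: Sylow subgroups are cyclic or generalized quaternion. -/
theorem cyclic_or_quaternion_of_fpf {p : ℕ} [Fact p.Prime] {K T : Subgroup G} [hKn : K.Normal] (hK : K ≠ ⊥)
    (hT : IsPGroup p T) (hfpf : ∀ h ∈ T, h ≠ 1 → K ⊓ centralizer {h} = ⊥) :
    IsCyclic T ∨ ∃ n : ℕ, Nonempty (T ≃* QuaternionGroup (2 ^ n)) := by
  have h := uniqueP_of_fpf hK hT hfpf
  by_cases hp : p = 2
  · subst hp
    exact cyclic_or_quaternion hT h
  · exact Or.inl (isCyclic_of_uniqueP_odd hp _ T rfl hT h)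

end Cfsg.Agent.Lib.OddLocal
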