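import Cfsg.Agent.Lib.OddLocal.CNFrob
import Cfsg.Agent.Lib.OddLocal.FrobComp
import Cfsg.Agent.Lib.Basic.Hall

/-!
CN groups: fixed-point-free complements are nilpotent.
-/

set_option autoImplicit false
set_option linter.unusedSectionVars false
set_option linter.style.haveILetI false

namespace Cfsg.Agent.Lib.OddLocal

open Subgroup Cfsg
open Cfsg.Agent.Lib.PGroups (exists_orderOf_of_mem_isPGroup mem_of_primary_powers isPGroup_zpowers_iff
  orderOf_conj_eq exists_pPart)

variable {G : Type*} [Group G]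

/-- In a CN-group, a `p'`-subgroup acting without fixed points on a normal `p`-subgroup is nilpotent. -/
theorem isNilpotent_of_fpf [Finite G] (hCN : IsCNGroup G) {p : ℕ} [Fact p.Prime] {P₀ E : Subgroup G}
    (hP0p : IsPGroup p P₀) (hPn : P₀.Normal) (hP1 : P₀ ≠ ⊥) (hEp : ∀ e ∈ E, (orderOf e).Coprime p)
    (hfpf : ∀ e ∈ E, e ≠ 1 → ∀ h ∈ P₀, h * e = e * h → h = 1) : Group.IsNilpotent E := by
  have hpp : p.Prime := Fact.out
  refine isNilpotent_of_forall_stable _ E rfl (fun q hq => ?_)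
  haveI : Fact q.Prime := ⟨hq⟩
  intro D hD g hg hgc
  by_cases hg1 : g = 1
  · rw [hg1]; exact Subgroup.one_mem _
  by_cases hD1 : D = ⊥
  · rw [hD1, Subgroup.mem_centralizer_iff]
    intro w hw
    have : w = 1 := by simpa using hw
    rw [this, one_mul, mul_one]
  set D' : Subgroup G := D.map E.subtype with hD'
  have hD'E : D' ≤ E := Subgroup.map_subtype_le D
  have hD'p : IsPGroup q D' := hD.map _
  have hD'1 : D' ≠ ⊥ := by
    intro e
    apply hD1
    rw [hD', Subgroup.map_eq_bot_iff, Subgroup.ker_subtype] at e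
    exact le_bot_iff.mp e
  set y : G := (g : G) with hy
  have hyN : y ∈ normalizer (D' : Set G) := by
    rw [Subgroup.mem_normalizer_iff] at hg ⊢
    intro w
    constructor
    · rintro ⟨w', hw', rfl⟩
      exact ⟨g * w' * g⁻¹, (hg w').mp hw', rfl⟩
    · rintro ⟨w', hw', e⟩
      have hwE : w = (g⁻¹ * w' * g : E) := by
        have e1 : (w' : G) = y * w * y⁻¹ := e
        simp only [Subgroup.coe_mul, Subgroup.coe_inv]
        rw [e1, hy]
        group
      rw [hwE]
      refine ⟨g⁻¹ * w' * g, ?_, rfl⟩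
      apply (hg (g⁻¹ * w' * g)).mpr
      have e2 : g * (g⁻¹ * w' * g) * g⁻¹ = w' := by group
      rw [e2]; exact hw'
  have hyq : (orderOf y).Coprime q := by
    rw [hy, Subgroup.orderOf_coe]; exact hgc
  have hy1 : y ≠ 1 := fun e => hg1 (Subtype.ext e)
  have hord1 : orderOf y ≠ 1 := fun e => hy1 (orderOf_eq_one_iff.mp e)
  obtain ⟨r, hr, m, hm⟩ := Nat.exists_prime_and_dvd hord1
  haveI : Fact r.Prime := ⟨hr⟩
  set y₀ := y ^ m with hy₀
  have hmpos : 0 < m := by
    rcases Nat.eq_zero_or_pos m with h | h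
    · subst h
      rw [mul_zero] at hm
      exact absurd hm (orderOf_pos _).ne'
    · exact h
  have hy₀r : y₀ ^ r = 1 := by
    rw [hy₀, ← pow_mul, mul_comm, ← hm]
    exact pow_orderOf_eq_one _
  have hy₀1 : y₀ ≠ 1 := by
    intro e
    have := orderOf_dvd_of_pow_eq_one e
    rw [hm] at this
    have h2 := Nat.le_of_dvd hmpos this
    have h3 := hr.two_le
    nlinarith
  have hy₀E : y₀ ∈ E := E.pow_mem g.2 m
  have hy₀N : y₀ ∈ normalizer (D' : Set G) := Subgroup.pow_mem _ hyN m
  have hrq : r ≠ q := by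
    rintro rfl
    have h1 : r ∣ orderOf y := ⟨m, hm⟩
    exact (Nat.Prime.coprime_iff_not_dvd hr).mp hyq.symm h1
  obtain ⟨d₀, hd₀, hd₀1⟩ : ∃ d ∈ D', d ≠ 1 := by
    obtain ⟨u, hu⟩ := Subgroup.ne_bot_iff_exists_ne_one.mp hD'1
    exact ⟨u.1, u.2, fun e => hu (Subtype.ext e)⟩
  have hqp : q ≠ p := by
    rintro rfl
    obtain ⟨k, hk⟩ := exists_orderOf_of_mem_isPGroup hD'p hd₀
    have hk0 : k ≠ 0 := by
      rintro rfl
      rw [pow_zero, orderOf_eq_one_iff] at hk
      exact hd₀1 hk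
    have h1 := hEp d₀ (hD'E hd₀)
    rw [hk] at h1
    exact (Nat.Prime.coprime_iff_not_dvd hpp).mp h1.symm (dvd_pow_self _ hk0)
  have hVne : zOf P₀ ≠ ⊥ := by
    obtain ⟨u, hu, hu1⟩ := exists_zOf_ne_one hP0p hP1
    intro e
    rw [e, Subgroup.mem_bot] at hu
    exact hu1 hu
  by_cases hfix : ∃ u ∈ zOf D', u ≠ 1 ∧ y₀ * u = u * y₀
  · obtain ⟨u, hu, hu1, huc⟩ := hfix
    have hcy₀ : ∀ d ∈ D', d * y₀ = y₀ * d := by
      intro d hd
      have h1 : d ∈ centralizer ({u} : Set G) := by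
        rw [mem_centralizer_singleton']
        exact (Subgroup.mem_centralizer_iff.mp (Subgroup.mem_inf.mp hu).2 d hd).symm
      have h2 : y₀ ∈ centralizer ({u} : Set G) := mem_centralizer_singleton'.mpr huc.symm
      obtain ⟨k, hk⟩ := exists_orderOf_of_mem_isPGroup hD'p hd
      have hy₀ord : orderOf y₀ = r := orderOf_eq_prime hy₀r hy₀1
      exact comm_of_coprime_of_nilpotent_subgroup (hCN u hu1) h1 h2 (by
        rw [hk, hy₀ord]
        exact Nat.Coprime.pow_left _ ((Nat.coprime_primes hq hr).mpr (Ne.symm hrq)))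
    rw [Subgroup.mem_centralizer_iff]
    intro w hw
    apply Subtype.ext
    have hwD : (w : G) ∈ D' := ⟨w, hw, rfl⟩
    have h1 : (w : G) ∈ centralizer ({y₀} : Set G) :=
      mem_centralizer_singleton'.mpr (hcy₀ _ hwD).symm
    have h2 : y ∈ centralizer ({y₀} : Set G) := by
      rw [mem_centralizer_singleton']
      exact (Commute.pow_left (Commute.refl y) m)
    obtain ⟨k, hk⟩ := exists_orderOf_of_mem_isPGroup hD'p hwD
    exact comm_of_coprime_of_nilpotent_subgroup (hCN y₀ hy₀1) h1 h2 (by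
      rw [hk]
      exact Nat.Coprime.pow_left _ hyq.symm)
  · exfalso
    push Not at hfix
    apply hVne
    refine frobenius_action_fixed_subgroup (zOf P₀) (zOf D') (zOf_comm P₀) y₀ hr hy₀r
      (fun a _ => mem_normalizer_zOf (Subgroup.normalizer_eq_top_iff.mpr hPn ▸ Subgroup.mem_top a))
      (mem_normalizer_zOf (Subgroup.normalizer_eq_top_iff.mpr hPn ▸ Subgroup.mem_top _))
      (mem_normalizer_zOf hy₀N) ?_ ?_ ?_ ?_
    · intro u hu hc
      by_contra hu1
      exact hfix u hu hu1 hc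
    · obtain ⟨a, ha⟩ := (hD'p.to_le (zOf_le D')).exists_card_eq
      obtain ⟨b, hb⟩ := (hP0p.to_le (zOf_le P₀)).exists_card_eq
      rw [ha, hb]
      exact Nat.Coprime.pow _ _ ((Nat.coprime_primes hq hpp).mpr hqp)
    · intro v hv hvc
      obtain ⟨u, hu, hu1⟩ := exists_zOf_ne_one hD'p hD'1
      exact hfpf u (hD'E (zOf_le D' hu)) hu1 v (zOf_le P₀ hv) (hvc u hu).symm
    · intro v hv hvc
      exact hfpf y₀ hy₀E hy₀1 v ((zOf_le P₀ hv)) hvc.symm


/-- A normal subgroup of order prime to the index of `H` lies in `H`. -/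
theorem le_of_normal_coprime_index [Finite G] {H K : Subgroup G} (hK : K.Normal)
    (hc : (Nat.card K).Coprime H.index) : K ≤ H := by
  set L := H ⊔ K with hL
  have h1 : Nat.card L ∣ Nat.card H * Nat.card K := card_sup_dvd_of_normal H K hK
  have h2 : Nat.card H * H.relIndex L = Nat.card L := card_mul_relIndex le_sup_left
  have h3 : H.relIndex L ∣ Nat.card K := by
    rw [← h2] at h1
    exact Nat.dvd_of_mul_dvd_mul_left Nat.card_pos h1
  have h4 : H.relIndex L ∣ H.index := Dvd.intro _ (Subgroup.relIndex_mul_index (le_sup_left : H ≤ L))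
  have h5 : H.relIndex L = 1 := by
    have := Nat.dvd_gcd h3 h4
    rw [hc.gcd_eq_one] at this
    exact Nat.dvd_one.mp this
  exact (le_sup_right : K ≤ L).trans (Subgroup.relIndex_eq_one.mp h5)

/-- Odd nilpotent groups acting without fixed points are cyclic. -/
theorem isCyclic_of_fpf_odd [Finite G] {K E : Subgroup G} [hKn : K.Normal] (hK : K ≠ ⊥) (hE : Group.IsNilpotent E)
    (hodd : Odd (Nat.card E)) (hfpf : ∀ h ∈ E, h ≠ 1 → K ⊓ centralizer {h} = ⊥) : IsCyclic E := by
  haveI : IsZGroup E := by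
    refine ⟨fun q hq S => ?_⟩
    haveI : Fact q.Prime := ⟨hq⟩
    let e := Subgroup.equivMapOfInjective (S : Subgroup E) E.subtype E.subtype_injective
    have hT : IsPGroup q ((S : Subgroup E).map E.subtype) := S.isPGroup'.of_equiv e
    by_cases h2 : q = 2
    · subst h2
      obtain ⟨k, hk⟩ := S.isPGroup'.exists_card_eq
      have hk0 : k = 0 := by
        by_contra h3
        have h4 : 2 ∣ Nat.card E := by
          refine dvd_trans ?_ (Subgroup.card_subgroup_dvd_card (S : Subgroup E))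
          rw [hk]
          exact dvd_pow_self 2 h3
        exact (Nat.not_even_iff_odd.mpr hodd) (even_iff_two_dvd.mpr h4)
      rw [hk0, pow_zero] at hk
      haveI : Subsingleton S := (Nat.card_eq_one_iff_unique.mp hk).1
      exact isCyclic_of_subsingleton
    · have hmem : ∀ h ∈ (S : Subgroup E).map E.subtype, h ∈ E := by
        rintro _ ⟨x, _, rfl⟩
        exact x.2
      have h3 := isCyclic_of_uniqueP_odd h2 _ _ rfl hT (uniqueP_of_fpf hK hT (fun h hh => hfpf h (hmem h hh)))
      exact isCyclic_of_surjective e.symm e.symm.surjective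
  infer_instance

/-- Nilpotent groups acting without fixed points. -/
theorem cyclic_or_product_of_fpf [Finite G] {K E : Subgroup G} [hKn : K.Normal] (hK : K ≠ ⊥) (hE : Group.IsNilpotent E)
    (hfpf : ∀ h ∈ E, h ≠ 1 → K ⊓ centralizer {h} = ⊥) :
    IsCyclic E ∨ ∃ C Q : Subgroup G, C ⊔ Q = E ∧ (∀ a ∈ C, ∀ b ∈ Q, a * b = b * a) ∧ IsCyclic C ∧ Odd (Nat.card C) ∧
          ∃ n : ℕ, Nonempty (↥Q ≃* QuaternionGroup (2 ^ n)) := by
  haveI : Fact (Nat.Prime 2) := ⟨Nat.prime_two⟩
  have hCodd : Odd (Nat.card (Oq' 2 E)) := (Nat.coprime_two_right).mp (Oq'_card_coprime 2 E)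
  have hCcyc : IsCyclic (Oq' 2 E) :=
    isCyclic_of_fpf_odd hK (Cfsg.Agent.Lib.Basic.isNilpotent_of_le (Oq'_le 2 E) hE) hCodd
      (fun h hh => hfpf h (Oq'_le 2 E hh))
  rcases cyclic_or_quaternion_of_fpf hK (Oq_isPGroup 2 E) (fun h hh => hfpf h (Oq_le 2 E hh)) with hQ | hQ
  · left
    haveI : IsZGroup E := by
      refine ⟨fun q hq S => ?_⟩
      haveI : Fact q.Prime := ⟨hq⟩
      let e := Subgroup.equivMapOfInjective (S : Subgroup E) E.subtype E.subtype_injective
      have hT : IsPGroup q ((S : Subgroup E).map E.subtype) := S.isPGroup'.of_equiv e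
      have hmem : ∀ h ∈ (S : Subgroup E).map E.subtype, h ∈ E := by
        rintro _ ⟨x, _, rfl⟩
        exact x.2
      have h3 : IsCyclic ((S : Subgroup E).map E.subtype) := by
        by_cases h2 : q = 2
        · subst h2
          have hle : (S : Subgroup E).map E.subtype ≤ Oq 2 E := by
            intro y hy
            obtain ⟨k, hk⟩ := exists_orderOf_of_mem_isPGroup hT hy
            exact mem_Oq hE (hmem y hy) (k := k) (by rw [← hk]; exact pow_orderOf_eq_one y)
          exact Subgroup.isCyclic_of_le hle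
        · have hle : (S : Subgroup E).map E.subtype ≤ Oq' 2 E := by
            intro y hy
            obtain ⟨k, hk⟩ := exists_orderOf_of_mem_isPGroup hT hy
            refine mem_Oq' hE (hmem y hy) ?_
            rw [hk]
            exact Nat.Coprime.pow_left _ ((Nat.coprime_primes hq Nat.prime_two).mpr h2)
          exact Subgroup.isCyclic_of_le hle
      exact isCyclic_of_surjective e.symm e.symm.surjective
    infer_instance
  · right
    refine ⟨Oq' 2 E, Oq 2 E, ?_, ?_, hCcyc, hCodd, hQ⟩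
    · apply le_antisymm
      · exact sup_le (Oq'_le 2 E) (Oq_le 2 E)
      · intro x hx
        obtain ⟨a, ha, b, hb, rfl⟩ := exists_parts 2 hE hx
        rw [(Oq_comm_Oq' hE ha hb)]
        exact Subgroup.mul_mem_sup hb ha
    · intro a ha b hb
      exact (Oq_comm_Oq' hE hb ha).symm

/-- Commutators modulo a normal subgroup. -/
theorem commutator_mem_iff_comm_mod {N : Subgroup G} [N.Normal] {x y : G} :
    x * y * x⁻¹ * y⁻¹ ∈ N ↔ Commute (x : G ⧸ N) (y : G ⧸ N) := by
  rw [← QuotientGroup.eq_one_iff, QuotientGroup.mk_mul, QuotientGroup.mk_mul, QuotientGroup.mk_mul,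
    QuotientGroup.mk_inv, QuotientGroup.mk_inv]
  constructor
  · intro h
    have h2 : (x : G ⧸ N) * (y : G ⧸ N) * (x : G ⧸ N)⁻¹ = (y : G ⧸ N) := mul_inv_eq_one.mp h
    exact mul_inv_eq_iff_eq_mul.mp h2
  · intro h
    have h2 : (x : G ⧸ N) * (y : G ⧸ N) = (y : G ⧸ N) * (x : G ⧸ N) := h
    rw [h2]
    group

/-- In the situation of a three-step group: a `p`-element outside `P` does not centralize a
non-identity `p'`-element modulo `P`. -/
theorem not_comm_mod [Finite G] (hCN : IsCNGroup G) {p : ℕ} [Fact p.Prime] {P : Subgroup G} (hP : IsPGroup p P)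
    (hPn : P.Normal) (hP1 : P ≠ ⊥)
    (hfp : ∀ y : G, (orderOf y).Coprime p → y ≠ 1 → ∀ h ∈ P, h * y = y * h → h = 1)
    {t a : G} (ht : ∃ k : ℕ, orderOf t = p ^ k) (htP : t ∉ P) (ha : (orderOf a).Coprime p) (ha1 : a ≠ 1)
    (hc : t * a * t⁻¹ * a⁻¹ ∈ P) : False := by
  have hpp : p.Prime := Fact.out
  haveI := hPn
  have hA : zpowers a ≤ normalizer (P : Set G) := fun _ _ => normalizer_eq_top_iff.mpr hPn ▸ mem_top _
  have hcop : (Nat.card P).Coprime (Nat.card (zpowers a)) := by
    obtain ⟨n, hn⟩ := hP.exists_card_eq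
    rw [hn, Nat.card_zpowers]
    exact Nat.Coprime.pow_left _ ha.symm
  have hsolv : Group.IsSolvable P ∨ Group.IsSolvable (zpowers a) := Or.inr inferInstance
  have hx : ∀ b ∈ zpowers a, t * b * t⁻¹ * b⁻¹ ∈ P := by
    rintro _ ⟨j, rfl⟩
    rw [commutator_mem_iff_comm_mod] at hc ⊢
    simp only [QuotientGroup.mk_zpow]
    exact hc.zpow_right j
  obtain ⟨n, hn, hnc⟩ := exists_mul_mem_centralizer hA hcop hsolv t hx
  set t₂ := n * t with ht₂
  have hWp : IsPGroup p (P ⊔ zpowers t : Subgroup G) :=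
    hP.to_sup_of_normal_left' (isPGroup_zpowers_iff.mpr ht) (fun a _ => normalizer_eq_top_iff.mpr hPn ▸ mem_top a)
  have ht₂p : ∃ k : ℕ, orderOf t₂ = p ^ k :=
    exists_orderOf_of_mem_isPGroup hWp (Subgroup.mul_mem_sup hn (mem_zpowers t))
  have ht₂1 : t₂ ≠ 1 := by
    intro e
    apply htP
    have : t = n⁻¹ := eq_inv_of_mul_eq_one_right e
    rw [this]
    exact P.inv_mem hn
  obtain ⟨h, hh, hh1, hhc⟩ := Cfsg.Agent.S1473.exists_fixed_in_normal hP hP1 hPn ht₂p
  have h1 : h ∈ centralizer ({t₂} : Set G) := mem_centralizer_singleton'.mpr hhc.symm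
  have h2 : a ∈ centralizer ({t₂} : Set G) := by
    rw [mem_centralizer_singleton']
    exact (Subgroup.mem_centralizer_iff.mp hnc a (mem_zpowers a)).symm
  obtain ⟨l, hl⟩ := exists_orderOf_of_mem_isPGroup hP hh
  have h3 := comm_of_coprime_of_nilpotent_subgroup (hCN t₂ ht₂1) h1 h2 (by
    rw [hl]; exact Nat.Coprime.pow_left _ ha.symm)
  exact hh1 (hfp a ha ha1 h hh h3)

end Cfsg.Agent.Lib.OddLocal
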