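import Cfsg.Agent.Lib.OddLocal.Rank2E
import Cfsg.Agent.Lib.Coprime.Hall
import Cfsg.Agent.Lib.Coprime.Omega1
import Cfsg.Agent.Lib.Coprime.Sylow

/-!
Solvable groups of odd order whose Fitting subgroup has rank at most two.
-/

set_option autoImplicit false
set_option linter.unusedSectionVars false
set_option linter.style.haveILetI false

namespace Cfsg.Agent.Lib.OddLocal

open Subgroup Cfsg Cfsg.Agent.Lib.Basic Cfsg.Agent.Lib.Coprime

open scoped commutatorElement

universe u

variable {G : Type u} [Group G] [Finite G]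

/-- A prime divisor of the order of a nontrivial image. -/
theorem exists_prime_dvd_of_hom_ne_one {T V : Type*} [Group T] [Group V] [Finite T] (φ : T →* V) (t : T) (ht : φ t ≠ 1) :
    ∃ q, q.Prime ∧ q ∣ orderOf t ∧ q ∣ orderOf (φ t) := by
  have h1 : orderOf (φ t) ≠ 1 := fun h => ht (orderOf_eq_one_iff.1 h)
  obtain ⟨q, hq, hqd⟩ := Nat.exists_prime_and_dvd h1
  exact ⟨q, hq, hqd.trans (orderOf_map_dvd φ t), hqd⟩

/-- An element of odd order acting nontrivially on a `p`-group of rank at most two, of order prime to `p`,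
has order divisible by a prime less than `p`. -/
theorem exists_prime_lt_of_act (p : ℕ) [hp : Fact p.Prime] (hp2 : p ≠ 2) (R : Subgroup G) (hR : IsPGroup p R)
    (hr : PRankLE p 2 R) (x : G) (hxN : x ∈ normalizer (R : Set G)) (hx : x ∉ centralizer (R : Set G))
    (hodd : Odd (orderOf x)) (hcop : (orderOf x).Coprime p) : ∃ q, q.Prime ∧ q ∣ orderOf x ∧ q < p := by
  classical
  set A := zpowers x with hA
  have hAN : A ≤ normalizer (R : Set G) := by rw [hA, zpowers_le]; exact hxN
  set g : ↥A := ⟨x, mem_zpowers x⟩ with hg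
  have hgord : orderOf g = orderOf x := by rw [hg, Subgroup.orderOf_mk]
  have hcop' : (orderOf g).Coprime p := by rwa [hgord]
  have hodd2 : ∀ q, q.Prime → q ∣ orderOf x → q ≠ 2 := by
    rintro q hq hd rfl
    exact absurd (Odd.of_dvd_nat hodd hd) (by decide)
  have hqp : ∀ q, q.Prime → q ∣ orderOf x → q ≠ p := by
    rintro q hq hd rfl
    have := Nat.dvd_gcd hd dvd_rfl
    rw [hcop.gcd_eq_one] at this
    exact hq.one_lt.ne' (Nat.dvd_one.1 this)
  by_cases hcyc : IsCyclic ↥R
  · -- cyclic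
    set σ := conjHomOf R A hAN with hσ
    have hσg : σ g ≠ 1 := by
      intro h
      apply hx
      rw [mem_centralizer_iff]
      intro y hy
      have h3 := congrArg (fun τ : MulAut ↥R => ((τ ⟨y, hy⟩ : ↥R) : G)) h
      exact (mul_inv_eq_iff_eq_mul.1 h3).symm
    obtain ⟨q, hq, hqg, hqo⟩ := exists_prime_dvd_of_hom_ne_one σ g hσg
    rw [hgord] at hqg
    refine ⟨q, hq, hqg, ?_⟩
    have h2 : q ∣ Nat.card (MulAut ↥R) := hqo.trans (orderOf_dvd_natCard _)
    rw [IsCyclic.card_mulAut] at h2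
    obtain ⟨n, hn⟩ := IsPGroup.iff_card.1 hR
    rw [hn] at h2
    rcases Nat.eq_zero_or_pos n with rfl | hnpos
    · simp at h2
      exact absurd h2 hq.ne_one
    · rw [Nat.totient_prime_pow hp.out hnpos] at h2
      rcases (Nat.Prime.dvd_mul hq).1 h2 with h3 | h3
      · exact absurd ((Nat.prime_dvd_prime_iff_eq hq hp.out).1 (hq.dvd_of_dvd_pow h3)) (hqp q hq hqg)
      · have h4 := Nat.le_of_dvd (Nat.sub_pos_of_lt hp.out.one_lt) h3
        have := hp.out.one_lt
        omega
  -- the non-cyclic case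
  set ρ := sectionHom p hp2 R A hAN with hρ
  obtain ⟨φ, hφ⟩ := exists_gl2_rep p (quot_omegaZ2_comm p hp2) (quot_omegaZ2_exp p hp2)
    (card_omegaZ2_quot p hp2 hR hr hcyc) ρ
  have hφg : φ g ≠ 1 := by
    intro h
    have h1 : ρ g = 1 := MulEquiv.ext (hφ g h)
    have h2 := section_key p hp2 R A hR hr hAN hcyc g hcop' h1
    apply hx
    rw [mem_centralizer_iff]
    intro y hy
    exact (mul_inv_eq_iff_eq_mul.1 (h2 ⟨y, hy⟩)).symm
  obtain ⟨q, hq, hqg, hqo⟩ := exists_prime_dvd_of_hom_ne_one φ g hφg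
  rw [hgord] at hqg
  refine ⟨q, hq, hqg, ?_⟩
  have hq2 := hodd2 q hq hqg
  have hqp' := hqp q hq hqg
  have h2 : q ∣ Nat.card (GL (Fin 2) (ZMod p)) := hqo.trans (orderOf_dvd_natCard _)
  rw [Matrix.card_GL_field, Fin.prod_univ_two] at h2
  simp only [ZMod.card, Fin.val_zero, Fin.val_one, pow_zero, pow_one] at h2
  have hp1 := hp.out.one_lt
  have h3 : p ^ 2 - 1 = (p - 1) * (p + 1) := by
    obtain ⟨r, rfl⟩ : ∃ r, p = r + 1 := ⟨p - 1, by omega⟩
    simp only [Nat.add_sub_cancel]
    have : (r + 1) ^ 2 = (r * (r + 1 + 1)) + 1 := by ring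
    omega
  have h4 : p ^ 2 - p = p * (p - 1) := by
    rw [Nat.mul_sub, mul_one, pow_two]
  rw [h3, h4] at h2
  have key : q ≤ p := by
    rcases (Nat.Prime.dvd_mul hq).1 h2 with h5 | h5
    · rcases (Nat.Prime.dvd_mul hq).1 h5 with h6 | h6
      · have := Nat.le_of_dvd (by omega) h6
        omega
      · have h7 := Nat.le_of_dvd (by omega) h6
        rcases Nat.lt_or_ge p q with hlt | hge
        · have h8 : q = p + 1 := by omega
          exfalso
          have hpodd : Odd p := hp.out.odd_of_ne_two hp2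
          have hqeven : Even q := by
            rw [h8]
            exact hpodd.add_one
          exact hq2 ((Nat.Prime.even_iff hq).1 hqeven)
        · exact hge
    · rcases (Nat.Prime.dvd_mul hq).1 h5 with h6 | h6
      · exact absurd ((Nat.prime_dvd_prime_iff_eq hq hp.out).1 h6) hqp'
      · have := Nat.le_of_dvd (by omega) h6
        omega
  omega

/-- The primes different from `q` contribute `N q` to the Fitting subgroup. -/
noncomputable def fitOff (q : ℕ) (G : Type u) [Group G] : Subgroup G :=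
  ⨆ s : {s : Nat.Primes // (s : ℕ) ≠ q}, pCore ((s : Nat.Primes) : ℕ) G

theorem pCore_le_fitOff {q s : ℕ} (hs : s.Prime) (hsq : s ≠ q) : pCore s G ≤ fitOff q G :=
  le_iSup (fun s : {s : Nat.Primes // (s : ℕ) ≠ q} => pCore ((s : Nat.Primes) : ℕ) G) ⟨⟨s, hs⟩, hsq⟩

theorem fitOff_le_of {q : ℕ} {K : Subgroup G} (h : ∀ s : ℕ, s.Prime → s ≠ q → pCore s G ≤ K) : fitOff q G ≤ K :=
  iSup_le fun s => h _ s.1.2 s.2

instance fitOff_normal (q : ℕ) : (fitOff q G).Normal :=
  Subgroup.iSup_normal (fun s : {s : Nat.Primes // (s : ℕ) ≠ q} => pCore ((s : Nat.Primes) : ℕ) G)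

theorem fitOff_le_pPrimeCore (q : ℕ) [Fact q.Prime] : fitOff q G ≤ pPrimeCore q G := by
  apply fitOff_le_of
  intro s hs hsq
  haveI : Fact s.Prime := ⟨hs⟩
  exact pCore_le_pPrimeCore_of_ne hsq

theorem fitting_le_sup_fitOff (q : ℕ) [Fact q.Prime] : fittingSubgroup G ≤ pCore q G ⊔ fitOff q G := by
  rw [fittingSubgroup_eq_iSup_pCore]
  apply iSup_le
  intro s
  by_cases hs : (s : ℕ) = q
  · rw [hs]
    exact le_sup_left
  · exact (pCore_le_fitOff s.2 hs).trans le_sup_right

/-- The part of the Fitting subgroup belonging to a set of primes. -/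
noncomputable def fitPart (σ : Set ℕ) (G : Type u) [Group G] : Subgroup G :=
  ⨆ s : {s : Nat.Primes // (s : ℕ) ∈ σ}, pCore ((s : Nat.Primes) : ℕ) G

theorem pCore_le_fitPart {σ : Set ℕ} {s : ℕ} (hs : s.Prime) (hsq : s ∈ σ) : pCore s G ≤ fitPart σ G :=
  le_iSup (fun s : {s : Nat.Primes // (s : ℕ) ∈ σ} => pCore ((s : Nat.Primes) : ℕ) G) ⟨⟨s, hs⟩, hsq⟩

theorem fitPart_le_of {σ : Set ℕ} {K : Subgroup G} (h : ∀ s : ℕ, s.Prime → s ∈ σ → pCore s G ≤ K) : fitPart σ G ≤ K :=
  iSup_le fun s => h _ s.1.2 s.2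

instance fitPart_normal (σ : Set ℕ) : (fitPart σ G).Normal :=
  Subgroup.iSup_normal (fun s : {s : Nat.Primes // (s : ℕ) ∈ σ} => pCore ((s : Nat.Primes) : ℕ) G)

theorem fitting_le_sup_fitPart (σ : Set ℕ) : fittingSubgroup G ≤ fitPart σ G ⊔ fitPart σᶜ G := by
  rw [fittingSubgroup_eq_iSup_pCore]
  apply iSup_le
  intro s
  by_cases hs : (s : ℕ) ∈ σ
  · exact (pCore_le_fitPart s.2 hs).trans le_sup_left
  · exact (pCore_le_fitPart s.2 hs).trans le_sup_right

/-- Elements of a normal `q`-subgroup and of a normal `q'`-subgroup commute. -/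
theorem comm_of_normal_coprime {A B : Subgroup G} [hA : A.Normal] [hB : B.Normal] (h : (Nat.card A).Coprime (Nat.card B))
    {a b : G} (ha : a ∈ A) (hb : b ∈ B) : a * b = b * a := by
  have h1 : a * b * a⁻¹ * b⁻¹ ∈ A := by
    have : a * b * a⁻¹ * b⁻¹ = a * (b * a⁻¹ * b⁻¹) := by group
    rw [this]
    exact A.mul_mem ha (hA.conj_mem _ (A.inv_mem ha) _)
  have h2 : a * b * a⁻¹ * b⁻¹ ∈ B := B.mul_mem (hB.conj_mem _ hb _) (B.inv_mem hb)
  have h3 : orderOf (a * b * a⁻¹ * b⁻¹) = 1 :=
    Nat.eq_one_of_dvd_coprimes h (Subgroup.orderOf_dvd_natCard A h1) (Subgroup.orderOf_dvd_natCard B h2)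
  have h4 := orderOf_eq_one_iff.1 h3
  have h5 : a * b * a⁻¹ = b := mul_inv_eq_one.1 h4
  exact (mul_inv_eq_iff_eq_mul.1 h5)

/-- A `q`-element times an element of a normal `q`-subgroup is a `q`-element. -/
theorem mul_pow_eq_one_of_pCore (q : ℕ) [hq : Fact q.Prime] {α x : G} (hα : α ∈ pCore q G) (a : ℕ)
    (hx : orderOf x = q ^ a) : ∃ k : ℕ, (α * x) ^ q ^ k = 1 := by
  set π := QuotientGroup.mk' (pCore q G) with hπ
  have hαπ : π α = 1 := (QuotientGroup.eq_one_iff α).2 hα
  have h1 : π (α * x) ^ q ^ a = 1 := by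
    rw [map_mul, hαπ, one_mul, ← map_pow, ← hx, pow_orderOf_eq_one, map_one]
  have h2 : (α * x) ^ q ^ a ∈ pCore q G := by
    rw [← map_pow] at h1
    exact (QuotientGroup.eq_one_iff _).1 h1
  obtain ⟨m, hm⟩ := (pCore_isPGroup (G := G) q) ⟨_, h2⟩
  refine ⟨a + m, ?_⟩
  have h3 := congrArg Subtype.val hm
  simp only [SubmonoidClass.mk_pow, Subgroup.coe_pow, Subgroup.coe_one] at h3
  rw [pow_add, pow_mul]
  exact h3

/-- An element `y x y⁻¹ x⁻¹` in the Fitting subgroup, where `x` is a `q`-element centralizing the `q'`-part,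
lies in `O_q(G)`. -/
theorem comm_mem_pCore (q : ℕ) [hq : Fact q.Prime] (x y : G) (a : ℕ) (hx : orderOf x = q ^ a)
    (hxc : ∀ s : ℕ, s.Prime → s ≠ q → x ∈ centralizer (pCore s G : Set G))
    (hz : y * x * y⁻¹ * x⁻¹ ∈ fittingSubgroup G) : y * x * y⁻¹ * x⁻¹ ∈ pCore q G := by
  have hz' := fitting_le_sup_fitOff q hz
  rw [Subgroup.mem_sup_of_normal_right] at hz'
  obtain ⟨α, hα, β, hβ, hαβ⟩ := hz'
  have hxβ : x * β = β * x := by
    have hle : fitOff q G ≤ centralizer ({x} : Set G) := by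
      apply fitOff_le_of
      intro s hs hsq u hu
      rw [mem_centralizer_singleton_iff]
      have := hxc s hs hsq
      rw [mem_centralizer_iff] at this
      exact this u hu
    have := hle hβ
    rw [mem_centralizer_singleton_iff] at this
    exact this.symm
  have hβc : Nat.Coprime (orderOf β) q := by
    have h1 : orderOf β ∣ Nat.card (pPrimeCore q G) :=
      Subgroup.orderOf_dvd_natCard _ (fitOff_le_pPrimeCore q hβ)
    exact Nat.Coprime.coprime_dvd_left h1 (pPrimeCore_coprime q)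
  have hαβc : α * β = β * α := by
    have hcop : (Nat.card (pCore q G)).Coprime (Nat.card (pPrimeCore q G)) := by
      obtain ⟨k, hk⟩ := (pCore_isPGroup (G := G) q).exists_card_eq
      rw [hk]
      exact Nat.Coprime.pow_left _ (pPrimeCore_coprime q).symm
    exact comm_of_normal_coprime hcop hα (fitOff_le_pPrimeCore q hβ)
  set w := α * x with hw
  have hwβ : w * β = β * w := by
    rw [hw, mul_assoc, hxβ, ← mul_assoc, hαβc, mul_assoc]
  have hconj : y * x * y⁻¹ = w * β := by
    have h1 : y * x * y⁻¹ = (y * x * y⁻¹ * x⁻¹) * x := by group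
    rw [h1, ← hαβ, hw, mul_assoc α β x, ← hxβ, mul_assoc]
  obtain ⟨k, hk⟩ := mul_pow_eq_one_of_pCore q hα a hx
  rw [← hw] at hk
  have h2 : (y * x * y⁻¹) ^ q ^ (k + a) = 1 := by
    rw [conj_pow, pow_add, mul_comm (q ^ k), pow_mul, ← hx, pow_orderOf_eq_one, one_pow, mul_one, mul_inv_cancel]
  rw [hconj, (Commute.mul_pow hwβ), pow_add, pow_mul, hk, one_pow, one_mul] at h2
  have h3 : orderOf β = 1 := by
    have h4 : orderOf β ∣ q ^ (k + a) := orderOf_dvd_of_pow_eq_one (by rwa [pow_add])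
    exact Nat.eq_one_of_dvd_coprimes (hβc.pow_right (k + a)) dvd_rfl h4
  have h5 : β = 1 := orderOf_eq_one_iff.1 h3
  rw [h5, mul_one] at hαβ
  rw [← hαβ]
  exact hα

/-- Lemma N. -/
theorem isNilpotent_derived_of_centralize [Group.IsSolvable G]
    (H : ∀ r : ℕ, r.Prime → ∀ c ∈ commutator G, (orderOf c).Coprime r → c ∈ centralizer (pCore r G : Set G)) :
    Group.IsNilpotent ↥(commutator G) := by
  apply Omega1.isNilpotent_of_primary_commute
  rintro ⟨x, hx⟩ ⟨y, hy⟩ q r a b hq hr hqr hxo hyo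
  rw [Subgroup.orderOf_mk] at hxo hyo
  haveI : Fact q.Prime := ⟨hq⟩
  haveI : Fact r.Prime := ⟨hr⟩
  -- the centralizing properties
  have hxc : ∀ s : ℕ, s.Prime → s ≠ q → x ∈ centralizer (pCore s G : Set G) := by
    intro s hs hsq
    apply H s hs x hx
    rw [hxo]
    exact Nat.Coprime.pow_left _ ((Nat.coprime_primes hq hs).2 (Ne.symm hsq))
  have hyc : ∀ s : ℕ, s.Prime → s ≠ r → y ∈ centralizer (pCore s G : Set G) := by
    intro s hs hsq
    apply H s hs y hy
    rw [hyo]
    exact Nat.Coprime.pow_left _ ((Nat.coprime_primes hr hs).2 (Ne.symm hsq))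
  -- centralizers of normal subgroups are normal
  have hconj : ∀ (s : ℕ) (u g : G), u ∈ centralizer (pCore s G : Set G) → g * u * g⁻¹ ∈ centralizer (pCore s G : Set G) := by
    intro s u g hu
    exact (inferInstance : (centralizer (pCore s G : Set G)).Normal).conj_mem u hu g
  set z := y * x * y⁻¹ * x⁻¹ with hz
  have hzc : ∀ s : ℕ, s.Prime → z ∈ centralizer (pCore s G : Set G) := by
    intro s hs
    by_cases hsq : s = q
    · -- `s ≠ r`
      have hsr : s ≠ r := hsq ▸ hqr
      have h1 : z = y * (x * y⁻¹ * x⁻¹) := by rw [hz]; group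
      rw [h1]
      apply Subgroup.mul_mem _ (hyc s hs hsr)
      exact hconj s _ _ (Subgroup.inv_mem _ (hyc s hs hsr))
    · apply Subgroup.mul_mem _ (hconj s _ _ (hxc s hs hsq)) (Subgroup.inv_mem _ (hxc s hs hsq))
  have hzF : z ∈ fittingSubgroup G := by
    apply centralizer_fitting_le_of_solvable
    rw [fittingSubgroup_eq_iSup_pCore, mem_centralizer_iff]
    intro h hh
    have hle : (⨆ p : Nat.Primes, pCore (p : ℕ) G) ≤ centralizer ({z} : Set G) := by
      apply iSup_le
      intro s u hu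
      rw [mem_centralizer_singleton_iff]
      have := hzc s s.2
      rw [mem_centralizer_iff] at this
      exact this u hu
    have := hle hh
    rw [mem_centralizer_singleton_iff] at this
    exact this
  have h1 : z ∈ pCore q G := comm_mem_pCore q x y a hxo hxc hzF
  have hzinv : x * y * x⁻¹ * y⁻¹ = z⁻¹ := by rw [hz]; group
  have h2 : x * y * x⁻¹ * y⁻¹ ∈ pCore r G := by
    apply comm_mem_pCore r y x b hyo hyc
    rw [hzinv]
    exact Subgroup.inv_mem _ hzF
  rw [hzinv] at h2
  have h3 : z ∈ pCore r G := by simpa using Subgroup.inv_mem _ h2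
  have h4 : orderOf z = 1 := by
    have h5 : (Nat.card (pCore q G)).Coprime (Nat.card (pCore r G)) := by
      obtain ⟨k, hk⟩ := (pCore_isPGroup (G := G) q).exists_card_eq
      obtain ⟨l, hl⟩ := (pCore_isPGroup (G := G) r).exists_card_eq
      rw [hk, hl]
      exact Nat.Coprime.pow _ _ ((Nat.coprime_primes hq hr).2 hqr)
    exact Nat.eq_one_of_dvd_coprimes h5 (Subgroup.orderOf_dvd_natCard _ h1) (Subgroup.orderOf_dvd_natCard _ h3)
  have h6 : z = 1 := orderOf_eq_one_iff.1 h4
  apply Subtype.ext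
  show x * y = y * x
  have h7 : y * x * y⁻¹ = x := mul_inv_eq_one.1 h6
  exact (mul_inv_eq_iff_eq_mul.1 h7).symm

/-- A subgroup containing a coprime power of an element contains the element. -/
theorem mem_of_pow_mem_of_coprime {X : Type*} [Group X] (K : Subgroup X) (c : X) (m : ℕ) (hcop : (orderOf c).Coprime m)
    (h : c ^ m ∈ K) : c ∈ K := by
  have h1 := Nat.gcd_eq_gcd_ab m (orderOf c)
  rw [Nat.gcd_comm, hcop.gcd_eq_one, Nat.cast_one] at h1
  have h2 : c = (c ^ m) ^ (Nat.gcdA m (orderOf c)) := by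
    have h3 : c ^ ((1 : ℤ)) = c ^ ((m : ℤ) * Nat.gcdA m (orderOf c) + (orderOf c : ℤ) * Nat.gcdB m (orderOf c)) := by
      rw [h1]
    rw [zpow_one, zpow_add, zpow_mul, zpow_mul, zpow_natCast, zpow_natCast, pow_orderOf_eq_one, one_zpow, mul_one] at h3
    exact h3
  rw [h2]
  exact K.zpow_mem h _

/-- Hypothesis (H) from the rank. -/
theorem centralize_of_rank [Group.IsSolvable G] (hodd : Odd (Nat.card G)) (r : ℕ) (hr : r.Prime)
    (hrk : PRankLE r 2 (pCore r G)) (c : G) (hc : c ∈ commutator G) (hcop : (orderOf c).Coprime r) :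
    c ∈ centralizer (pCore r G : Set G) := by
  haveI hrf : Fact r.Prime := ⟨hr⟩
  by_cases hr2 : r = 2
  · subst hr2
    have h : pCore 2 G = ⊥ := pCore_eq_bot_of_not_dvd (fun h => by
      obtain ⟨k, hk⟩ := hodd
      rw [hk] at h
      omega)
    rw [h, mem_centralizer_iff]
    intro u hu
    rw [Subgroup.mem_bot.1 hu, one_mul, mul_one]
  have hnorm : (⊤ : Subgroup G) ≤ normalizer (pCore r G : Set G) := by
    rw [normalizer_eq_top_iff.2 inferInstance]
  obtain ⟨n, hn⟩ := s1449_general r hr2 (pCore r G) ⊤ (pCore_isPGroup r) hrk hnorm (by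
    rw [show Group.IsSolvable ↥(⊤ : Subgroup G) ↔ Group.IsSolvable G from
      ⟨fun h => Group.isSolvable_of_surjective (f := (⊤ : Subgroup G).subtype) (fun x => ⟨⟨x, mem_top x⟩, rfl⟩),
        fun h => Group.isSolvable_of_isSolvable_injective (f := (⊤ : Subgroup G).subtype) (Subgroup.subtype_injective _)⟩]
    infer_instance) (by rwa [Subgroup.card_top]) c (by
      rw [← _root_.commutator_def]
      exact hc)
  exact mem_of_pow_mem_of_coprime _ c _ (hcop.pow_right n) hn

/-- Part (1) of **S1451**. -/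
theorem s1451_nilp [Group.IsSolvable G] (hodd : Odd (Nat.card G)) (hF : RankLE 2 (fittingSubgroup G)) :
    Group.IsNilpotent ↥(commutator G) := by
  apply isNilpotent_derived_of_centralize
  intro r hr c hc hcop
  haveI hrf : Fact r.Prime := ⟨hr⟩
  refine centralize_of_rank hodd r hr ?_ c hc hcop
  intro E hEc hEe
  have hle : pCore r G ≤ fittingSubgroup G := pCore_le_fittingSubgroup r
  have h := hF r hr (E.map (inclusion hle)) ⟨⟨by
    rintro ⟨_, a, ha, rfl⟩ ⟨_, b, hb, rfl⟩
    apply Subtype.ext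
    have := hEc.is_comm.comm ⟨a, ha⟩ ⟨b, hb⟩
    exact congrArg (fun x : E => inclusion hle (x : ↥(pCore r G))) this⟩⟩ (by
    rintro _ ⟨a, ha, rfl⟩
    rw [← map_pow, hEe a ha, map_one])
  rwa [Nat.card_congr (E.equivMapOfInjective _ (inclusion_injective hle)).symm.toEquiv] at h

/-- A `q`-element of the Fitting subgroup lies in `O_q(G)`. -/
theorem mem_pCore_of_fitting (q : ℕ) [hq : Fact q.Prime] {u : G} (hu : u ∈ fittingSubgroup G) (k : ℕ)
    (hk : u ^ q ^ k = 1) : u ∈ pCore q G := by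
  have hz' := fitting_le_sup_fitOff q hu
  rw [Subgroup.mem_sup_of_normal_right] at hz'
  obtain ⟨α, hα, β, hβ, hαβ⟩ := hz'
  have hβc : Nat.Coprime (orderOf β) q := by
    have h1 : orderOf β ∣ Nat.card (pPrimeCore q G) :=
      Subgroup.orderOf_dvd_natCard _ (fitOff_le_pPrimeCore q hβ)
    exact Nat.Coprime.coprime_dvd_left h1 (pPrimeCore_coprime q)
  have hcop : (Nat.card (pCore q G)).Coprime (Nat.card (pPrimeCore q G)) := by
    obtain ⟨k, hk⟩ := (pCore_isPGroup (G := G) q).exists_card_eq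
    rw [hk]
    exact Nat.Coprime.pow_left _ (pPrimeCore_coprime q).symm
  have hαβc : α * β = β * α := comm_of_normal_coprime hcop hα (fitOff_le_pPrimeCore q hβ)
  obtain ⟨m, hm⟩ := (pCore_isPGroup (G := G) q) ⟨α, hα⟩
  have hm' : α ^ q ^ m = 1 := by
    have := congrArg Subtype.val hm
    simpa using this
  have h1 : β ^ q ^ (k + m) = 1 := by
    have h2 : (α * β) ^ q ^ (k + m) = 1 := by
      rw [hαβ, pow_add, pow_mul, hk, one_pow]
    rw [(Commute.mul_pow hαβc), pow_add, mul_comm (q ^ k), pow_mul, hm', one_pow, one_mul] at h2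
    rw [pow_add, mul_comm (q ^ k)]
    exact h2
  have h3 : orderOf β = 1 := Nat.eq_one_of_dvd_coprimes (hβc.pow_right (k + m)) dvd_rfl (orderOf_dvd_of_pow_eq_one h1)
  rw [orderOf_eq_one_iff.1 h3, mul_one] at hαβ
  rw [← hαβ]
  exact hα

/-- Part (2) of **S1451**. -/
theorem s1451_char (hnil : Group.IsNilpotent ↥(commutator G)) (q : ℕ) [hq : Fact q.Prime] (S : Sylow q G)
    (T : Subgroup ↥(S : Subgroup G)) (hT : T.Characteristic)
    (hle : T.map (S : Subgroup G).subtype ≤ ⁅(S : Subgroup G), (S : Subgroup G)⁆) :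
    (T.map (S : Subgroup G).subtype).Normal := by
  classical
  set T' := T.map (S : Subgroup G).subtype with hT'
  have hGF : commutator G ≤ fittingSubgroup G := le_fittingSubgroup_of_nilpotent inferInstance hnil
  have hSd : ⁅(S : Subgroup G), (S : Subgroup G)⁆ ≤ commutator G :=
    Subgroup.commutator_mono le_top le_top
  have hSS : ⁅(S : Subgroup G), (S : Subgroup G)⁆ ≤ (S : Subgroup G) := by
    rw [Subgroup.commutator_le]
    intro u hu v hv
    exact Subgroup.mul_mem _ (Subgroup.mul_mem _ (Subgroup.mul_mem _ hu hv) (Subgroup.inv_mem _ hu)) (Subgroup.inv_mem _ hv)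
  -- `T'` lies in `O_q(G)`
  have hTQ : T' ≤ pCore q G := by
    intro t ht
    have ht1 := hle ht
    obtain ⟨k, hk⟩ := S.isPGroup' ⟨t, hSS ht1⟩
    apply mem_pCore_of_fitting q (hGF (hSd ht1)) k
    simpa using congrArg Subtype.val hk
  have hQS : pCore q G ≤ (S : Subgroup G) := pCore_le_sylow S
  -- elements normalizing `S` normalize `T'`
  have hN : ∀ n ∈ normalizer (S : Set G), ∀ t ∈ T', n * t * n⁻¹ ∈ T' := by
    rintro n hn _ ⟨t, ht, rfl⟩
    have h1 := (characteristic_iff_comap_eq.1 hT) (conjAutOf (S : Subgroup G) n hn)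
    rw [← h1] at ht
    exact ⟨_, ht, rfl⟩
  -- `O_q(G)` normalizes `T'`
  have hQ : ∀ α ∈ pCore q G, ∀ t ∈ T', α * t * α⁻¹ ∈ T' := by
    intro α hα t ht
    exact hN α (Subgroup.le_normalizer (hQS hα)) t ht
  -- elements of the derived group normalize `T'`
  have hD : ∀ c ∈ commutator G, ∀ t ∈ T', c * t * c⁻¹ ∈ T' := by
    intro c hc t ht
    have hz' := fitting_le_sup_fitOff q (hGF hc)
    rw [Subgroup.mem_sup_of_normal_right] at hz'
    obtain ⟨α, hα, β, hβ, rfl⟩ := hz'
    have hcop : (Nat.card (pCore q G)).Coprime (Nat.card (pPrimeCore q G)) := by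
      obtain ⟨k, hk⟩ := (pCore_isPGroup (G := G) q).exists_card_eq
      rw [hk]
      exact Nat.Coprime.pow_left _ (pPrimeCore_coprime q).symm
    have h1 : t * β = β * t := comm_of_normal_coprime hcop (hTQ ht) (fitOff_le_pPrimeCore q hβ)
    have h2 : α * β * t * (α * β)⁻¹ = α * t * α⁻¹ := by
      rw [mul_assoc α β t, ← h1]
      group
    rw [h2]
    exact hQ α hα t ht
  -- the Frattini argument
  have hF : normalizer (S : Set G) ⊔ commutator G = ⊤ := by
    haveI hNn : ((S : Subgroup G) ⊔ commutator G).Normal := by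
      constructor
      intro u hu g
      have h2 : g * u * g⁻¹ = (g * u * g⁻¹ * u⁻¹) * u := by group
      rw [h2]
      apply Subgroup.mul_mem _ _ hu
      apply (le_sup_right : commutator G ≤ (S : Subgroup G) ⊔ commutator G)
      rw [_root_.commutator_def]
      exact Subgroup.commutator_mem_commutator (mem_top _) (mem_top _)
    have h1 := Sylow.normalizer_sup_eq_top' (N := (S : Subgroup G) ⊔ commutator G) S le_sup_left
    rw [eq_top_iff, ← h1]
    exact sup_le le_sup_left (sup_le (le_trans Subgroup.le_normalizer le_sup_left) le_sup_right)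
  constructor
  intro t ht g
  have hg : g ∈ normalizer (S : Set G) ⊔ commutator G := by rw [hF]; exact mem_top g
  rw [Subgroup.mem_sup_of_normal_right] at hg
  obtain ⟨n, hn, c, hc, rfl⟩ := hg
  have h3 : n * c * t * (n * c)⁻¹ = n * (c * t * c⁻¹) * n⁻¹ := by group
  rw [h3]
  exact hN n hn _ (hD c hc t ht)

/-- A normal subgroup of order prime to its index consists of the elements with order dividing its order. -/
theorem mem_of_orderOf_dvd_of_normal_hall (H : Subgroup G) [H.Normal] (hcop : (Nat.card H).Coprime H.index) (x : G)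
    (hx : orderOf x ∣ Nat.card H) : x ∈ H := by
  have h1 : orderOf (x : G ⧸ H) ∣ Nat.card H := by
    refine Nat.dvd_trans ?_ hx
    exact orderOf_map_dvd (QuotientGroup.mk' H) x
  have h2 : orderOf (x : G ⧸ H) ∣ H.index := by
    rw [Subgroup.index_eq_card]
    exact orderOf_dvd_natCard _
  have h3 : orderOf (x : G ⧸ H) = 1 := Nat.eq_one_of_dvd_coprimes hcop h1 h2
  exact (QuotientGroup.eq_one_iff x).1 (orderOf_eq_one_iff.1 h3)

/-- Normal Hall subgroups are characteristic. -/
theorem characteristic_of_normal_hall (H : Subgroup G) [H.Normal] (hcop : (Nat.card H).Coprime H.index) :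
    H.Characteristic := by
  rw [characteristic_iff_comap_le]
  intro φ x hx
  apply mem_of_orderOf_dvd_of_normal_hall H hcop
  have h1 : orderOf (φ x) ∣ Nat.card H := Subgroup.orderOf_dvd_natCard H hx
  rwa [MulEquiv.orderOf_eq] at h1

/-- Part (3) of **S1451**. -/
theorem s1451_tower [Group.IsSolvable G] (hodd : Odd (Nat.card G)) (hF : RankLE 2 (fittingSubgroup G))
    (hnil : Group.IsNilpotent ↥(commutator G)) (p : ℕ) :
    ∃ N : Subgroup G, N.Characteristic ∧ IsPiHall {q | q.Prime ∧ p < q} N := by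
  classical
  set π : Set ℕ := {q | q.Prime ∧ p < q} with hπ
  have hsolvtop : Group.IsSolvable ↥(⊤ : Subgroup G) :=
    Group.isSolvable_of_isSolvable_injective (f := (⊤ : Subgroup G).subtype) (Subgroup.subtype_injective _)
  obtain ⟨H, hH, -, -⟩ := exists_invariant_hall (X := G) π (Nat.card ↥(⊤ : Subgroup G)) (A := ⊥) (G := ⊤) (U := ⊥)
    ⟨bot_le, by simp, Or.inr hsolvtop⟩ hsolvtop rfl bot_le
    (by
      rw [show ((⊥ : Subgroup G) : Set G) = {1} from rfl]
      simp)
    (by
      intro q hq hd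
      simp at hd
      exact absurd hd hq.one_lt.ne')
  have hH1 : ∀ q, q.Prime → q ∣ Nat.card H → q ∈ π := hH.2.1
  have hH2 : ∀ q, q.Prime → q ∈ π → ¬ q ∣ H.index := by
    intro q hq hq2
    have := hH.2.2 q hq hq2
    rwa [Subgroup.relIndex_top_right] at this
  have hHidx : (Nat.card H).Coprime H.index := by
    apply Nat.coprime_of_dvd
    intro q hq h1 h2
    exact hH2 q hq (hH1 q hq h1) h2
  -- the elements of `H` centralize `O_s(G)` for `s ∉ π`
  have hHo : ∀ y ∈ H, ∀ q, q.Prime → q ∣ orderOf y → q ∈ π := fun y hy q hq hd =>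
    hH1 q hq (hd.trans (Subgroup.orderOf_dvd_natCard H hy))
  have hoddy : ∀ y : G, Odd (orderOf y) := fun y => Odd.of_dvd_nat hodd (orderOf_dvd_natCard y)
  have hcent : ∀ y ∈ H, ∀ s, s.Prime → s ∉ π → y ∈ centralizer (pCore s G : Set G) := by
    intro y hy s hs hsπ
    haveI : Fact s.Prime := ⟨hs⟩
    have hsp : s ≤ p := by
      by_contra h
      exact hsπ ⟨hs, by omega⟩
    by_cases hs2 : s = 2
    · subst hs2
      have h : pCore 2 G = ⊥ := pCore_eq_bot_of_not_dvd (fun h => by
        obtain ⟨k, hk⟩ := hodd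
        rw [hk] at h
        omega)
      rw [h, mem_centralizer_iff]
      intro u hu
      rw [Subgroup.mem_bot.1 hu, one_mul, mul_one]
    by_contra hyc
    have hrk : PRankLE s 2 (pCore s G) := by
      intro E hEc hEe
      have hle : pCore s G ≤ fittingSubgroup G := pCore_le_fittingSubgroup s
      have h := hF s hs (E.map (inclusion hle)) ⟨⟨by
        rintro ⟨_, a, ha, rfl⟩ ⟨_, b, hb, rfl⟩
        apply Subtype.ext
        have := hEc.is_comm.comm ⟨a, ha⟩ ⟨b, hb⟩
        exact congrArg (fun x : E => inclusion hle (x : ↥(pCore s G))) this⟩⟩ (by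
        rintro _ ⟨a, ha, rfl⟩
        rw [← map_pow, hEe a ha, map_one])
      rwa [Nat.card_congr (E.equivMapOfInjective _ (inclusion_injective hle)).symm.toEquiv] at h
    have hcop : (orderOf y).Coprime s := by
      rw [Nat.coprime_comm, Nat.Prime.coprime_iff_not_dvd hs]
      intro hd
      exact hsπ (hHo y hy s hs hd)
    have hnorm : y ∈ normalizer (pCore s G : Set G) := by
      rw [normalizer_eq_top_iff.2 inferInstance]
      exact mem_top y
    obtain ⟨q, hq, hqd, hqs⟩ := exists_prime_lt_of_act s hs2 (pCore s G) (pCore_isPGroup s) hrk y hnorm hyc (hoddy y) hcop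
    have := (hHo y hy q hq hqd).2
    omega
  -- the `π`-core of `F(G)` is in `H`
  have hcore : ∀ q, q.Prime → q ∈ π → pCore q G ≤ H := by
    intro q hq hqπ
    haveI : Fact q.Prime := ⟨hq⟩
    set Q := pCore q G with hQ
    obtain ⟨n, hn⟩ := (pCore_isPGroup (G := G) q).exists_card_eq
    rw [← hQ] at hn
    have h1 : Nat.card ↥(H ⊔ Q) = Nat.card Q * Q.relIndex H := card_sup_eq_of_normal H Q
    have h2 : Nat.card H * H.relIndex (H ⊔ Q) = Nat.card ↥(H ⊔ Q) := card_mul_relIndex le_sup_left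
    have h3 : Nat.card ↥(Q ⊓ H) * Q.relIndex H = Nat.card H := by
      rw [← Subgroup.inf_relIndex_right, ]
      exact card_mul_relIndex inf_le_right
    have hJ : ¬ q ∣ H.relIndex (H ⊔ Q) := fun h =>
      hH2 q hq hqπ (h.trans (Subgroup.relIndex_dvd_index_of_le le_sup_left))
    have hR : Q.relIndex H ≠ 0 := Subgroup.index_ne_zero_of_finite
    have h4 : Nat.card Q = Nat.card ↥(Q ⊓ H) * H.relIndex (H ⊔ Q) := by
      have : Nat.card Q * Q.relIndex H = (Nat.card ↥(Q ⊓ H) * H.relIndex (H ⊔ Q)) * Q.relIndex H := by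
        rw [← h1, ← h2, ← h3]
        ring
      exact Nat.eq_of_mul_eq_mul_right (Nat.pos_of_ne_zero hR) this
    have h5 : H.relIndex (H ⊔ Q) = 1 := by
      have h6 : H.relIndex (H ⊔ Q) ∣ q ^ n := ⟨Nat.card ↥(Q ⊓ H), by rw [← hn, h4]; ring⟩
      exact Nat.eq_one_of_dvd_coprimes (((Nat.Prime.coprime_iff_not_dvd hq).2 hJ).symm.pow_right n) dvd_rfl h6
    rw [h5, mul_one] at h4
    have h7 : Q ⊓ H = Q := Subgroup.eq_of_le_of_card_ge inf_le_left h4.le
    exact inf_eq_left.1 h7
  have hFH : fitPart π G ≤ H := by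
    apply fitPart_le_of
    intro q hq hqπ
    exact hcore q hq hqπ
  have hDc : ∀ y ∈ H, ∀ d ∈ fitPart πᶜ G, y * d = d * y := by
    intro y hy d hd
    have hle : fitPart πᶜ G ≤ centralizer ({y} : Set G) := by
      apply fitPart_le_of
      intro s hs hsπ u hu
      rw [mem_centralizer_singleton_iff]
      have := hcent y hy s hs hsπ
      rw [mem_centralizer_iff] at this
      exact this u hu
    have := hle hd
    rw [mem_centralizer_singleton_iff] at this
    exact this.symm
  -- `H` is normal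
  have hnormal : H.Normal := by
    constructor
    intro y hy x
    have hGF : commutator G ≤ fittingSubgroup G := le_fittingSubgroup_of_nilpotent inferInstance hnil
    have hz : x * y * x⁻¹ * y⁻¹ ∈ fittingSubgroup G := by
      apply hGF
      rw [_root_.commutator_def]
      exact Subgroup.commutator_mem_commutator (mem_top x) (mem_top y)
    have hz' := fitting_le_sup_fitPart π hz
    rw [Subgroup.mem_sup_of_normal_right] at hz'
    obtain ⟨a, ha, d, hd, had⟩ := hz'
    have haH := hFH ha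
    set h := a * y with hh
    have hhH : h ∈ H := H.mul_mem haH hy
    have hconj : x * y * x⁻¹ = h * d := by
      have h1 : x * y * x⁻¹ = (x * y * x⁻¹ * y⁻¹) * y := by group
      rw [h1, ← had, hh, mul_assoc a d y, ← hDc y hy d hd, mul_assoc]
    have hc : h * d = d * h := hDc h hhH d hd
    have hm : d ^ Nat.card H = 1 := by
      have h2 : (x * y * x⁻¹) ^ Nat.card H = 1 := by
        rw [conj_pow]
        have : y ^ Nat.card H = 1 := orderOf_dvd_iff_pow_eq_one.1 (Subgroup.orderOf_dvd_natCard H hy)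
        rw [this, mul_one, mul_inv_cancel]
      rw [hconj, (Commute.mul_pow hc)] at h2
      have h3 : h ^ Nat.card H = 1 := orderOf_dvd_iff_pow_eq_one.1 (Subgroup.orderOf_dvd_natCard H hhH)
      rwa [h3, one_mul] at h2
    have hdo : orderOf d = 1 := by
      by_contra hne
      obtain ⟨q, hq, hqd⟩ := Nat.exists_prime_and_dvd hne
      have h1 : q ∈ π := hH1 q hq (hqd.trans (orderOf_dvd_of_pow_eq_one hm))
      haveI : Fact q.Prime := ⟨hq⟩
      have hle : fitPart πᶜ G ≤ pPrimeCore q G := by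
        apply fitPart_le_of
        intro s hs hsπ
        haveI : Fact s.Prime := ⟨hs⟩
        apply pCore_le_pPrimeCore_of_ne
        rintro rfl
        exact hsπ h1
      have h2 : orderOf d ∣ Nat.card (pPrimeCore q G) := Subgroup.orderOf_dvd_natCard _ (hle hd)
      have h3 := pPrimeCore_coprime (G := G) q
      have h4 := Nat.dvd_gcd (hqd.trans h2) dvd_rfl
      rw [h3.gcd_eq_one] at h4
      exact hq.one_lt.ne' (Nat.dvd_one.1 h4)
    rw [hconj, orderOf_eq_one_iff.1 hdo, mul_one]
    exact hhH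
  exact ⟨H, characteristic_of_normal_hall H hHidx, hH1, hH2⟩

end Cfsg.Agent.Lib.OddLocal
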