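import Cfsg.Agent.Lib.Basic.Glauberman
import Cfsg.Agent.Lib.Coprime.Conj
import Cfsg.Agent.Lib.OddLocal.Basic
import Cfsg.Prelude.Def_OddOrderLocal
import Cfsg.Prelude.Def_OddOrder

/-!
The π-core API, and the Thompson transitivity argument (the lemma on overlapping invariant
subgroups) in a minimal simple group of odd order.
-/

set_option autoImplicit false
set_option linter.unusedSectionVars false
set_option linter.style.haveILetI false

namespace Cfsg.Agent.Lib.OddLocal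

open Subgroup Cfsg

open Cfsg.Agent.Lib.Coprime (mem_conj_map conj_mem_conj_map conj_map_conj_map conj_map_one
  conj_map_mono card_conj_map mem_normalizer_of_conj_le conj_map_eq_iff_mem_normalizer)

variable {G : Type*} [Group G] [Finite G]

/-- All prime divisors of the order lie in `π`. -/
def IsPiSub (π : Set ℕ) (Y : Subgroup G) : Prop := ∀ p : ℕ, p.Prime → p ∣ Nat.card Y → p ∈ π

theorem isPiSub_bot (π : Set ℕ) : IsPiSub π (⊥ : Subgroup G) := by
  intro p hp h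
  rw [Subgroup.card_bot, Nat.dvd_one] at h
  exact absurd h hp.ne_one

theorem IsPiSub.mono {π : Set ℕ} {Y Z : Subgroup G} (h : IsPiSub π Z) (hYZ : Y ≤ Z) : IsPiSub π Y :=
  fun p hp hd => h p hp (hd.trans (Subgroup.card_dvd_of_le hYZ))

theorem IsPiSub.sup_of_normal {π : Set ℕ} {Y Z : Subgroup G} (hY : IsPiSub π Y) (hZ : IsPiSub π Z)
    (hZn : Z.Normal) : IsPiSub π (Y ⊔ Z) := by
  intro p hp hd
  have h1 := hd.trans (card_sup_dvd_of_normal Y Z hZn)
  rcases (Nat.Prime.dvd_mul hp).1 h1 with h | h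
  · exact hY p hp h
  · exact hZ p hp h

theorem IsPiSub.conj {π : Set ℕ} {Y : Subgroup G} (hY : IsPiSub π Y) (g : G) :
    IsPiSub π (Y.map (MulAut.conj g).toMonoidHom) := by
  intro p hp hd
  rw [card_conj_map] at hd
  exact hY p hp hd

theorem isPiSub_singleton_iff {q : ℕ} (hq : q.Prime) {Y : Subgroup G} :
    IsPiSub {q} Y ↔ IsPGroup q Y := by
  constructor
  · intro h
    obtain ⟨k, hk⟩ : ∃ k, Nat.card Y = q ^ k := by
      haveI : Fact q.Prime := ⟨hq⟩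
      exact ⟨_, Nat.eq_prime_pow_of_unique_prime_dvd (Nat.card_pos : 0 < Nat.card Y).ne'
        fun {d} hd hdd => h d hd hdd⟩
    exact IsPGroup.of_card hk
  · intro h p hp hd
    haveI : Fact q.Prime := ⟨hq⟩
    obtain ⟨k, hk⟩ := IsPGroup.iff_card.1 h
    rw [hk] at hd
    exact (Nat.prime_dvd_prime_iff_eq hp hq).1 (hp.dvd_of_dvd_pow hd)

theorem piCore_isPi (π : Set ℕ) (X : Type*) [Group X] [Finite X] :
    ∀ p : ℕ, p.Prime → p ∣ Nat.card (piCore π X) → p ∈ π := by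
  have := sSup_mem_of_sup_closed (G := X) (fun N => N.Normal ∧ ∀ p : ℕ, p.Prime → p ∣ Nat.card N → p ∈ π)
    ⟨inferInstance, fun p hp h => by
      rw [Subgroup.card_bot, Nat.dvd_one] at h
      exact absurd h hp.ne_one⟩
    (fun A B hA hB => ⟨by
      haveI := hA.1
      haveI := hB.1
      infer_instance, fun p hp hd => by
      have h1 := hd.trans (card_sup_dvd_of_normal A B hB.1)
      rcases (Nat.Prime.dvd_mul hp).1 h1 with h | h
      · exact hA.2 p hp h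
      · exact hB.2 p hp h⟩)
  exact this.2

theorem piCoreOf_le (π : Set ℕ) (X : Subgroup G) : piCoreOf π X ≤ X :=
  Subgroup.map_subtype_le _

theorem piCoreOf_isPi (π : Set ℕ) (X : Subgroup G) : IsPiSub π (piCoreOf π X) := by
  intro p hp hd
  have h1 : Nat.card (piCoreOf π X) = Nat.card (piCore π X) :=
    Subgroup.card_map_of_injective X.subtype_injective
  rw [h1] at hd
  exact piCore_isPi π X p hp hd

theorem le_normalizer_piCoreOf (π : Set ℕ) (X : Subgroup G) :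
    X ≤ normalizer (piCoreOf π X : Set G) := by
  intro x hx
  apply mem_normalizer_of_conj_le
  rintro _ ⟨y, hy, rfl⟩
  refine ⟨⟨x, hx⟩ * y * ⟨x, hx⟩⁻¹, (piCore_normal π X).conj_mem y hy _, ?_⟩
  simp

theorem le_piCoreOf {π : Set ℕ} {X Y : Subgroup G} (hYX : Y ≤ X) (hn : X ≤ normalizer (Y : Set G))
    (hY : IsPiSub π Y) : Y ≤ piCoreOf π X := by
  let Y' : Subgroup X := Y.subgroupOf X
  have hY'n : Y'.Normal := by
    constructor
    intro n hn' g
    rw [Subgroup.mem_subgroupOf] at hn' ⊢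
    exact (Subgroup.mem_normalizer_iff.1 (hn g.2) _).1 hn'
  have hcard : Nat.card Y' = Nat.card Y := Nat.card_congr (subgroupOfEquivOfLe hYX).toEquiv
  have hle : Y' ≤ piCore π X := le_sSup ⟨hY'n, fun p hp hd => by
    rw [hcard] at hd
    exact hY p hp hd⟩
  intro y hy
  exact ⟨⟨y, hYX hy⟩, hle (by simpa [Y', Subgroup.mem_subgroupOf] using hy), rfl⟩

theorem coprime_of_isPi_primesNotDvd {n : ℕ} {L : Subgroup G} (hL : IsPiSub (primesNotDvd n) L) :
    n.Coprime (Nat.card L) :=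
  Nat.coprime_of_dvd fun p hp h1 h2 => (hL p hp h2).2 h1

theorem isPiSub_primesNotDvd_of_singleton {n q : ℕ} (hq : q.Prime) (hqn : ¬ q ∣ n) {Y : Subgroup G}
    (hY : IsPiSub {q} Y) : IsPiSub (primesNotDvd n) Y := by
  intro p hp hd
  have := hY p hp hd
  rw [Set.mem_singleton_iff] at this
  subst this
  exact ⟨hq, hqn⟩

section Simple

theorem IsMinSimpleOddOrder.normal_eq (hG : IsMinSimpleOddOrder G) {N : Subgroup G} (hN : N.Normal) :
    N = ⊥ ∨ N = ⊤ :=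
  (hG.2.1).eq_bot_or_eq_top_of_normal N hN

theorem IsMinSimpleOddOrder.ne_top_of_isPGroup (hG : IsMinSimpleOddOrder G) {q : ℕ} (hq : q.Prime)
    {D : Subgroup G} (hD : IsPGroup q D) : D ≠ ⊤ := by
  rintro rfl
  haveI : Fact q.Prime := ⟨hq⟩
  haveI : Nontrivial G := (hG.2.1).toNontrivial
  have hG' : IsPGroup q G := by
    intro g
    obtain ⟨k, hk⟩ := hD ⟨g, Subgroup.mem_top g⟩
    exact ⟨k, by simpa [Subtype.ext_iff] using hk⟩
  have hc : Nontrivial (center G) := hG'.center_nontrivial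
  have hc2 : center G = ⊤ := by
    rcases IsMinSimpleOddOrder.normal_eq hG (N := center G) inferInstance with h | h
    · rw [h] at hc
      exact absurd hc (by simpa using not_nontrivial _)
    · exact h
  apply hG.2.2.1
  constructor
  constructor
  intro a b
  have h1 : a ∈ center G := hc2 ▸ Subgroup.mem_top a
  exact (Subgroup.mem_center_iff.1 h1 b).symm

theorem IsMinSimpleOddOrder.normalizer_ne_top (hG : IsMinSimpleOddOrder G) {D : Subgroup G}
    (hD : D ≠ ⊥) (hD' : D ≠ ⊤) : normalizer (D : Set G) ≠ ⊤ := by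
  intro h
  have : D.Normal := Subgroup.normalizer_eq_top_iff.1 h
  rcases IsMinSimpleOddOrder.normal_eq hG this with h | h
  · exact hD h
  · exact hD' h

theorem IsMinSimpleOddOrder.isSolvable (hG : IsMinSimpleOddOrder G) {H : Subgroup G} (hH : H ≠ ⊤) :
    Group.IsSolvable H := hG.2.2.2 H hH

end Simple

/-! ### Growth of normalizers -/

theorem card_lt_of_subgroup_lt {H K : Subgroup G} (h : H < K) : Nat.card H < Nat.card K := by
  refine lt_of_le_of_ne (Nat.le_of_dvd Nat.card_pos (Subgroup.card_dvd_of_le h.le)) fun he => ?_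
  exact (ne_of_lt h) (Subgroup.eq_of_le_of_card_ge h.le he.ge)

theorem lt_inf_normalizer {q : ℕ} [Fact q.Prime] {Q D : Subgroup G} (hQ : IsPGroup q Q) (hDQ : D < Q) :
    D < Q ⊓ normalizer (D : Set G) := by
  have : Group.IsNilpotent Q := hQ.isNilpotent
  set T' : Subgroup Q := D.subgroupOf Q with hT'
  have hT'top : T' < ⊤ := by
    apply lt_top_iff_ne_top.mpr
    intro htop
    apply (ne_of_lt hDQ)
    apply le_antisymm hDQ.le
    intro x hx
    have : (⟨x, hx⟩ : Q) ∈ T' := by rw [htop]; trivial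
    simpa [hT', Subgroup.mem_subgroupOf] using this
  have hgrow := Group.normalizerCondition_of_isNilpotent (G := Q) T' hT'top
  obtain ⟨y, hy, hyT⟩ := Set.exists_of_ssubset hgrow
  refine lt_of_le_of_ne (le_inf hDQ.le le_normalizer) ?_
  intro heq
  apply hyT
  have hy1 : (y : G) ∈ normalizer (D : Set G) := by
    apply mem_normalizer_of_conj_le
    intro x hx
    have h1 := (Subgroup.mem_normalizer_iff.mp hy ⟨x, hDQ.le hx⟩).1
      (by simpa [hT', Subgroup.mem_subgroupOf] using hx)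
    simpa [hT', Subgroup.mem_subgroupOf] using h1
  have hy2 : (y : G) ∈ D := by
    rw [heq]
    exact ⟨y.2, hy1⟩
  simpa [hT', Subgroup.mem_subgroupOf] using hy2

/-! ### The transitivity hypothesis -/

section Transitivity

variable {A : Subgroup G} {k : G}

local notation "π" => primesNotDvd (Nat.card A)

local notation "𝐊" => piCoreOf (primesNotDvd (Nat.card A)) (centralizer (A : Set G))

theorem mem_inv_normalizer {A Y : Subgroup G} {a : G} (h : A ≤ normalizer (Y : Set G)) (ha : a ∈ A)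
    {y : G} (hy : y ∈ Y) : a * y * a⁻¹ ∈ Y :=
  (Subgroup.mem_normalizer_iff.1 (h ha) y).1 hy

theorem centralizer_le_normalizer' (A : Subgroup G) :
    centralizer (A : Set G) ≤ normalizer (A : Set G) := by
  intro c hc
  apply mem_normalizer_of_conj_le
  intro x hx
  have := Subgroup.mem_centralizer_iff.1 hc x hx
  rw [← this]
  simpa using hx

theorem sup_centralizer_ne_top (hG : IsMinSimpleOddOrder G) (hA : TransitivityHypothesis A) :
    A ⊔ centralizer (A : Set G) ≠ ⊤ := by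
  intro h
  have h1 : A ⊔ centralizer (A : Set G) ≤ normalizer (A : Set G) :=
    sup_le le_normalizer (centralizer_le_normalizer' A)
  rw [h, top_le_iff] at h1
  exact (IsMinSimpleOddOrder.normalizer_ne_top hG hA.1 hA.2.1) h1

theorem normalizes_of_le_centralizer {A L : Subgroup G} (h : L ≤ centralizer (A : Set G)) :
    A ≤ normalizer (L : Set G) := by
  intro a ha
  apply mem_normalizer_of_conj_le
  intro x hx
  have := Subgroup.mem_centralizer_iff.1 (h hx) a ha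
  rw [this]
  simpa using hx

theorem mem_piCoreOf_of_inv {A X Y : Subgroup G} (hA : TransitivityHypothesis A) (hX : X ≠ ⊤) (hAX : A ≤ X)
    (hYX : Y ≤ X) (hY : IsPiSub (primesNotDvd (Nat.card A)) Y) (hAY : A ≤ normalizer (Y : Set G)) :
    Y ≤ piCoreOf (primesNotDvd (Nat.card A)) X := by
  rw [← hA.2.2 X hX hAX]
  exact le_sSup ⟨hYX, hY, hAY⟩

/-- `𝐊` contains every `π`-subgroup of `C_G(A)`. -/
theorem le_kCore (hG : IsMinSimpleOddOrder G) (hA : TransitivityHypothesis A) {L : Subgroup G}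
    (hLC : L ≤ centralizer (A : Set G)) (hL : IsPiSub π L) : L ≤ 𝐊 := by
  set X₀ := A ⊔ centralizer (A : Set G) with hX₀
  have hX₀ne : X₀ ≠ ⊤ := sup_centralizer_ne_top hG hA
  have h1 : L ≤ piCoreOf π X₀ :=
    mem_piCoreOf_of_inv hA hX₀ne le_sup_left (hLC.trans le_sup_right) hL
      (normalizes_of_le_centralizer hLC)
  set T := piCoreOf π X₀ ⊓ centralizer (A : Set G) with hT
  have h2 : T ≤ 𝐊 := by
    refine le_piCoreOf inf_le_right ?_ ((piCoreOf_isPi π X₀).mono inf_le_left)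
    intro c hc
    apply mem_normalizer_of_conj_le
    intro x hx
    obtain ⟨hx1, hx2⟩ := Subgroup.mem_inf.1 hx
    refine Subgroup.mem_inf.2 ⟨?_, mul_mem (mul_mem hc hx2) (inv_mem hc)⟩
    exact (Subgroup.mem_normalizer_iff.1 (le_normalizer_piCoreOf π X₀ (le_sup_right (a := A) hc)) x).1 hx1
  exact (le_inf h1 hLC).trans h2

/-- The `𝐊`-conjugation relation. -/
def KConj (K : Subgroup G) (Q Q' : Subgroup G) : Prop :=
  ∃ k ∈ K, Q' = Q.map (MulAut.conj k).toMonoidHom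

theorem KConj.refl (K Q : Subgroup G) : KConj K Q Q :=
  ⟨1, K.one_mem, (conj_map_one Q).symm⟩

theorem KConj.symm {K Q Q' : Subgroup G} (h : KConj K Q Q') : KConj K Q' Q := by
  obtain ⟨k, hk, rfl⟩ := h
  refine ⟨k⁻¹, K.inv_mem hk, ?_⟩
  rw [conj_map_conj_map, inv_mul_cancel, conj_map_one]

theorem KConj.trans {K Q Q' Q'' : Subgroup G} (h : KConj K Q Q') (h' : KConj K Q' Q'') :
    KConj K Q Q'' := by
  obtain ⟨k, hk, rfl⟩ := h
  obtain ⟨k', hk', rfl⟩ := h'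
  exact ⟨k' * k, K.mul_mem hk' hk, conj_map_conj_map _ _ _⟩

/-- Transitivity inside a proper overgroup of `A`. -/
theorem kconj_of_maxInv (hG : IsMinSimpleOddOrder G) (hA : TransitivityHypothesis A) {X : Subgroup G}
    (hX : X ≠ ⊤) (hAX : A ≤ X) (q : ℕ) [Fact q.Prime] (hq : ¬ q ∣ Nat.card A) {Y₁ Y₂ : Subgroup G}
    (h₁ : Y₁ ∈ maxInvSubgroups X A {q}) (h₂ : Y₂ ∈ maxInvSubgroups X A {q}) : KConj 𝐊 Y₁ Y₂ := by
  have hqp : q.Prime := Fact.out
  set L := piCoreOf π X with hL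
  have hLπ : IsPiSub π L := piCoreOf_isPi π X
  have hAL : A ≤ normalizer (L : Set G) := hAX.trans (le_normalizer_piCoreOf π X)
  have hcop : (Nat.card A).Coprime (Nat.card L) := coprime_of_isPi_primesNotDvd hLπ
  have hsol : Group.IsSolvable A ∨ Group.IsSolvable L :=
    Or.inl (IsMinSimpleOddOrder.isSolvable hG hA.2.1)
  have key : ∀ Y ∈ maxInvSubgroups X A {q}, Y ∈ Agent.Lib.Basic.sylowMaps q L ∧ A ≤ normalizer (Y : Set G) := by
    intro Y hY
    obtain ⟨⟨hYX, hYq, hYA⟩, hYmax⟩ := hY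
    have hYL : Y ≤ L := mem_piCoreOf_of_inv hA hX hAX hYX
      (isPiSub_primesNotDvd_of_singleton hqp hq hYq) hYA
    have hYp : IsPGroup q Y := (isPiSub_singleton_iff hqp).1 hYq
    obtain ⟨P, hP1, hP2⟩ := Agent.Lib.Basic.exists_invariant_sylow_ge hAL hcop hsol q Y hYL hYp hYA
    have hPmem : (P : Subgroup L).map L.subtype ∈ invSubgroups X A {q} := by
      refine ⟨(Subgroup.map_subtype_le _).trans (piCoreOf_le π X), ?_, hP2⟩
      exact (isPiSub_singleton_iff hqp).2 (P.isPGroup'.map _)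
    have := hYmax _ hPmem hP1
    rw [← this]
    exact ⟨⟨P, rfl⟩, hP2⟩
  obtain ⟨hs1, ha1⟩ := key Y₁ h₁
  obtain ⟨hs2, ha2⟩ := key Y₂ h₂
  obtain ⟨-, htr⟩ := Agent.Lib.Basic.glauberman_subgroups hAL hcop hsol (Agent.Lib.Basic.sylowMaps q L)
    ⟨Y₁, hs1⟩
    (fun k hk X hX => Agent.Lib.Basic.conj_smul_mem_sylowMaps (Subgroup.le_normalizer hk) hX)
    (fun a ha X hX => Agent.Lib.Basic.conj_smul_mem_sylowMaps (hAL ha) hX)
    (fun X hX Y hY => Agent.Lib.Basic.sylowMaps_trans hX hY)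
  obtain ⟨c, hc, hcY⟩ := htr _ hs1 _ hs2 ha1 ha2
  refine ⟨c, ?_, hcY.symm⟩
  have hT : L ⊓ centralizer (A : Set G) ≤ 𝐊 :=
    le_kCore hG hA inf_le_right (hLπ.mono inf_le_left)
  exact hT hc

/-- An `A`-invariant `q`-subgroup lies in a maximal one. -/
theorem exists_maxInv_ge {X T : Subgroup G} {q : ℕ} (hT : T ∈ invSubgroups X A {q}) :
    ∃ Y ∈ maxInvSubgroups X A {q}, T ≤ Y := by
  have hS : ({Y : Subgroup G | Y ∈ invSubgroups X A {q} ∧ T ≤ Y}).Nonempty := ⟨T, hT, le_rfl⟩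
  obtain ⟨Y, ⟨hY1, hY2⟩, hmax⟩ := (Set.toFinite _).exists_maximal hS
  refine ⟨Y, ⟨hY1, fun R hR hYR => ?_⟩, hY2⟩
  exact le_antisymm (hmax ⟨hR, hY2.trans hYR⟩ hYR) hYR

theorem maxInv_conj (hk : k ∈ centralizer (A : Set G)) {Q : Subgroup G} {q : ℕ}
    (hQ : Q ∈ maxInvSubgroups ⊤ A {q}) : Q.map (MulAut.conj k).toMonoidHom ∈ maxInvSubgroups ⊤ A {q} := by
  have inv_conj : ∀ (c : G), c ∈ centralizer (A : Set G) → ∀ Y ∈ invSubgroups ⊤ A {q},
      Y.map (MulAut.conj c).toMonoidHom ∈ invSubgroups ⊤ A {q} := by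
    intro c hc Y hY
    refine ⟨le_top, IsPiSub.conj hY.2.1 c, ?_⟩
    intro a ha
    rw [← conj_map_eq_iff_mem_normalizer, conj_map_conj_map]
    have h1 : a * c = c * a := (Subgroup.mem_centralizer_iff.1 hc a ha)
    rw [h1, ← conj_map_conj_map, (conj_map_eq_iff_mem_normalizer Y a).2 (hY.2.2 ha)]
  refine ⟨inv_conj k hk Q hQ.1, fun R hR hle => ?_⟩
  have h1 : R.map (MulAut.conj k⁻¹).toMonoidHom ∈ invSubgroups ⊤ A {q} :=
    inv_conj k⁻¹ (inv_mem hk) R hR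
  have h2 : Q ≤ R.map (MulAut.conj k⁻¹).toMonoidHom := by
    have := conj_map_mono hle k⁻¹
    rwa [conj_map_conj_map, inv_mul_cancel, conj_map_one] at this
  have h3 := hQ.2 _ h1 h2
  rw [← h3, conj_map_conj_map, mul_inv_cancel, conj_map_one]

/-- The bridge step: two invariant `q`-subgroups of a proper overgroup of `A`. -/
theorem bridge_step (hG : IsMinSimpleOddOrder G) (hA : TransitivityHypothesis A) {X : Subgroup G}
    (hX : X ≠ ⊤) (hAX : A ≤ X) (q : ℕ) [Fact q.Prime] (hq : ¬ q ∣ Nat.card A) {T₁ T₂ : Subgroup G}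
    (h₁ : T₁ ∈ invSubgroups X A {q}) (h₂ : T₂ ∈ invSubgroups X A {q}) :
    ∃ Q₁ ∈ maxInvSubgroups ⊤ A {q}, ∃ Q₂ ∈ maxInvSubgroups ⊤ A {q},
      T₁ ≤ Q₁ ∧ T₂ ≤ Q₂ ∧ KConj 𝐊 Q₁ Q₂ := by
  obtain ⟨Y₁, hY₁, hT₁⟩ := exists_maxInv_ge h₁
  obtain ⟨Y₂, hY₂, hT₂⟩ := exists_maxInv_ge h₂
  obtain ⟨k, hk, hkY⟩ := kconj_of_maxInv hG hA hX hAX q hq hY₁ hY₂
  obtain ⟨Q₂, hQ₂, hYQ₂⟩ := exists_maxInv_ge (X := ⊤) (T := Y₂)
    ⟨le_top, hY₂.1.2.1, hY₂.1.2.2⟩
  have hkc : k ∈ centralizer (A : Set G) := piCoreOf_le π _ hk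
  have hQ₁ := maxInv_conj (inv_mem hkc) hQ₂
  refine ⟨_, hQ₁, Q₂, hQ₂, ?_, hT₂.trans hYQ₂, ?_⟩
  · refine hT₁.trans ?_
    have := conj_map_mono hYQ₂ k⁻¹
    rwa [hkY, conj_map_conj_map, inv_mul_cancel, conj_map_one] at this
  · exact KConj.symm (K := 𝐊) (Q := Q₂) ⟨k⁻¹, inv_mem hk, rfl⟩

/-- Two maximal invariant `q`-subgroups with nontrivial intersection are `𝐊`-conjugate. -/
theorem kconj_of_inf_ne_bot (hG : IsMinSimpleOddOrder G) (hA : TransitivityHypothesis A) (q : ℕ)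
    [Fact q.Prime] (hq : ¬ q ∣ Nat.card A) :
    ∀ n : ℕ, ∀ Q₁ ∈ maxInvSubgroups ⊤ A {q}, ∀ Q₂ ∈ maxInvSubgroups ⊤ A {q},
      Nat.card G - Nat.card ↥(Q₁ ⊓ Q₂) = n → Q₁ ⊓ Q₂ ≠ ⊥ → KConj 𝐊 Q₁ Q₂ := by
  have hqp : q.Prime := Fact.out
  intro n
  induction n using Nat.strong_induction_on with
  | _ n ih =>
  intro Q₁ h₁ Q₂ h₂ hn hne
  by_cases heq : Q₁ = Q₂
  · rw [← heq]
    exact KConj.refl _ _
  set D := Q₁ ⊓ Q₂ with hD
  have hD1 : D < Q₁ := by
    refine lt_of_le_of_ne inf_le_left fun h => heq ?_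
    exact (h₁.2 Q₂ h₂.1 (h ▸ inf_le_right)).symm
  have hD2 : D < Q₂ := by
    refine lt_of_le_of_ne inf_le_right fun h => heq ?_
    exact h₂.2 Q₁ h₁.1 (h ▸ inf_le_left)
  have hp1 : IsPGroup q Q₁ := (isPiSub_singleton_iff hqp).1 h₁.1.2.1
  have hp2 : IsPGroup q Q₂ := (isPiSub_singleton_iff hqp).1 h₂.1.2.1
  have hDp : IsPGroup q D := hp1.to_le inf_le_left
  set N := normalizer (D : Set G) with hN
  have hNne : N ≠ ⊤ := IsMinSimpleOddOrder.normalizer_ne_top hG hne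
    (IsMinSimpleOddOrder.ne_top_of_isPGroup hG hqp hDp)
  have hAD : A ≤ N :=
    (le_inf h₁.1.2.2 h₂.1.2.2).trans Subgroup.inf_normalizer_le_normalizer_inf
  have hinvT : ∀ Q ∈ maxInvSubgroups ⊤ A {q}, Q ⊓ N ∈ invSubgroups N A {q} := by
    intro Q hQ
    refine ⟨inf_le_right, (show IsPiSub {q} Q from hQ.1.2.1).mono inf_le_left, ?_⟩
    exact (le_inf hQ.1.2.2 (hAD.trans le_normalizer)).trans Subgroup.inf_normalizer_le_normalizer_inf
  obtain ⟨R₁, hR₁, R₂, hR₂, hT₁, hT₂, hR⟩ := bridge_step hG hA hNne hAD q hq (hinvT Q₁ h₁) (hinvT Q₂ h₂)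
  have hlt1 : D < Q₁ ⊓ N := lt_inf_normalizer hp1 hD1
  have hlt2 : D < Q₂ ⊓ N := lt_inf_normalizer hp2 hD2
  have hcard : Nat.card D < Nat.card ↥(Q₁ ⊓ N) := card_lt_of_subgroup_lt hlt1
  have hcard2 : Nat.card D < Nat.card ↥(Q₂ ⊓ N) := card_lt_of_subgroup_lt hlt2
  have hrec : ∀ Q Q' : Subgroup G, Q ∈ maxInvSubgroups ⊤ A {q} → Q' ∈ maxInvSubgroups ⊤ A {q} →
      D < Q ⊓ Q' → KConj 𝐊 Q Q' := by
    intro Q Q' hQ hQ' hlt
    refine ih _ ?_ Q hQ Q' hQ' rfl ?_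
    · have h3 : Nat.card D < Nat.card ↥(Q ⊓ Q') := card_lt_of_subgroup_lt hlt
      have h4 : Nat.card ↥(Q ⊓ Q') ≤ Nat.card G := Subgroup.card_le_card_group _
      have h5 : 0 < Nat.card D := Nat.card_pos
      omega
    · intro h
      rw [h] at hlt
      exact not_lt_bot hlt
  have h1 : KConj 𝐊 Q₁ R₁ := hrec Q₁ R₁ h₁ hR₁
    (lt_of_lt_of_le hlt1 (le_inf inf_le_left hT₁))
  have h2 : KConj 𝐊 R₂ Q₂ := hrec R₂ Q₂ hR₂ h₂
    (lt_of_lt_of_le hlt2 (le_inf hT₂ inf_le_left))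
  exact h1.trans (hR.trans h2)

/-- Two maximal invariant `q`-subgroups meeting a proper overgroup of `A` are `𝐊`-conjugate. -/
theorem kconj_of_meet (hG : IsMinSimpleOddOrder G) (hA : TransitivityHypothesis A) (q : ℕ)
    [Fact q.Prime] (hq : ¬ q ∣ Nat.card A) {Q₁ Q₂ H : Subgroup G} (h₁ : Q₁ ∈ maxInvSubgroups ⊤ A {q})
    (h₂ : Q₂ ∈ maxInvSubgroups ⊤ A {q}) (hH : H ≠ ⊤) (hAH : A ≤ H) (hH₁ : H ⊓ Q₁ ≠ ⊥)
    (hH₂ : H ⊓ Q₂ ≠ ⊥) : KConj 𝐊 Q₁ Q₂ := by
  have hinvT : ∀ Q ∈ maxInvSubgroups ⊤ A {q}, H ⊓ Q ∈ invSubgroups H A {q} := by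
    intro Q hQ
    refine ⟨inf_le_left, (show IsPiSub {q} Q from hQ.1.2.1).mono inf_le_right, ?_⟩
    exact (le_inf (hAH.trans le_normalizer) hQ.1.2.2).trans Subgroup.inf_normalizer_le_normalizer_inf
  obtain ⟨R₁, hR₁, R₂, hR₂, hT₁, hT₂, hR⟩ := bridge_step hG hA hH hAH q hq (hinvT Q₁ h₁) (hinvT Q₂ h₂)
  have hrec : ∀ Q Q' : Subgroup G, Q ∈ maxInvSubgroups ⊤ A {q} → Q' ∈ maxInvSubgroups ⊤ A {q} →
      Q ⊓ Q' ≠ ⊥ → KConj 𝐊 Q Q' := fun Q Q' hQ hQ' hne =>
    kconj_of_inf_ne_bot hG hA q hq _ Q hQ Q' hQ' rfl hne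
  have h1 : KConj 𝐊 Q₁ R₁ := hrec Q₁ R₁ h₁ hR₁ (by
    intro h
    apply hH₁
    apply le_bot_iff.1
    rw [← h]
    exact le_inf inf_le_right hT₁)
  have h2 : KConj 𝐊 R₂ Q₂ := hrec R₂ Q₂ hR₂ h₂ (by
    intro h
    apply hH₂
    apply le_bot_iff.1
    rw [← h]
    exact le_inf hT₂ inf_le_right)
  exact h1.trans (hR.trans h2)

end Transitivity

end Cfsg.Agent.Lib.OddLocal
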